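import Cfsg.Agent.Lib.Golay.RootData
import Cfsg.Agent.Lib.Golay.CodeLists
import Cfsg.Prelude.Def_SporadicCombinatorics

/-!
# Sets of points as masks; transporting statements along `M24`
-/

set_option autoImplicit false

namespace Cfsg.Agent.Lib.GolayOrbit

open Cfsg Cfsg.Agent.Lib.Compute Equiv
open scoped Pointwise

theorem setOf24_and (a b : ℕ) : setOf24 (a &&& b) = setOf24 a ∩ setOf24 b := by
  ext p
  simp [mem_setOf24]

theorem setOf24_or (a b : ℕ) : setOf24 (a ||| b) = setOf24 a ∪ setOf24 b := by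
  ext p
  simp [mem_setOf24]

theorem setOf24_zero : setOf24 0 = ∅ := by
  ext p
  simp [mem_setOf24]

theorem setOf24_compl (a : ℕ) : setOf24 (a ^^^ 16777215) = (setOf24 a)ᶜ := by
  ext p
  have h : (16777215 : ℕ).testBit (enc p).val = true := by
    rw [show (16777215 : ℕ) = 2 ^ 24 - 1 from rfl, Nat.testBit_two_pow_sub_one]
    simp [(enc p).isLt]
  simp [mem_setOf24, Finset.mem_compl, h]

theorem setOf24_singleton (i : Fin 24) : setOf24 (1 <<< i.val) = {enc.symm i} := by
  ext p
  rw [mem_setOf24, Finset.mem_singleton, Nat.one_shiftLeft, Nat.testBit_two_pow, decide_eq_true_eq,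
    Equiv.eq_symm_apply, ← Fin.val_inj]
  exact eq_comm

theorem card_setOf24_and (a b : ℕ) : (setOf24 a ∩ setOf24 b).card = popN (a &&& b) := by
  rw [← setOf24_and, card_setOf24, popN_eq]

theorem disjoint_setOf24 {a b : ℕ} (ha : a < 2 ^ 24) :
    Disjoint (setOf24 a) (setOf24 b) ↔ a &&& b = 0 := by
  rw [Finset.disjoint_iff_inter_eq_empty, ← setOf24_and, ← setOf24_zero]
  exact ⟨fun h => setOf24_injOn (lt_of_le_of_lt Nat.and_le_left ha)
    (by norm_num) h, fun h => by rw [h]⟩

theorem setOf24_subset {a b : ℕ} (ha : a < 2 ^ 24) :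
    setOf24 a ⊆ setOf24 b ↔ a &&& b = a := by
  rw [← Finset.inter_eq_left, ← setOf24_and]
  exact ⟨fun h => setOf24_injOn (lt_of_le_of_lt Nat.and_le_left ha) ha h, fun h => by rw [h]⟩

/-- The mask of a set of points. -/
def maskOf (s : Finset GolayPt) : ℕ := Nat.ofBits fun i : Fin 24 => decide (enc.symm i ∈ s)

theorem maskOf_lt (s : Finset GolayPt) : maskOf s < 2 ^ 24 := Nat.ofBits_lt_two_pow _

theorem setOf24_maskOf (s : Finset GolayPt) : setOf24 (maskOf s) = s := by
  ext p
  simp [mem_setOf24, maskOf, Nat.testBit_ofBits, (enc p).isLt]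

theorem exists_octad_mask {o : Finset GolayPt} (h : o ∈ octads) : ∃ m ∈ octadList, setOf24 m = o := by
  rwa [octads_eq] at h

theorem exists_dodecad_mask {d : Finset GolayPt} (h : d ∈ dodecads) :
    ∃ m ∈ dodecadList, setOf24 m = d := by
  rwa [dodecads_eq] at h

theorem mem_octads_of_mask {m : ℕ} (h : m ∈ octadList) : setOf24 m ∈ octads := by
  rw [octads_eq]
  exact ⟨m, h, rfl⟩

theorem mem_dodecads_of_mask {m : ℕ} (h : m ∈ dodecadList) : setOf24 m ∈ dodecads := by
  rw [dodecads_eq]
  exact ⟨m, h, rfl⟩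

/-- Counting members of a list of distinct masks with a property. -/
theorem ncard_mask_image {L : List ℕ} (hn : L.Nodup) (hlt : ∀ m ∈ L, m < 2 ^ 24)
    (P : Finset GolayPt → Prop) (q : ℕ → Bool) (h : ∀ m ∈ L, (P (setOf24 m) ↔ q m = true)) :
    {s | s ∈ setOf24 '' {m | m ∈ L} ∧ P s}.ncard = L.countP q := by
  have he : {s | s ∈ setOf24 '' {m | m ∈ L} ∧ P s} = setOf24 '' {m | m ∈ L.filter q} := by
    ext s
    simp only [Set.mem_setOf_eq, Set.mem_image, List.mem_filter]
    constructor
    · rintro ⟨⟨m, hm, rfl⟩, hp⟩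
      exact ⟨m, ⟨hm, (h m hm).1 hp⟩, rfl⟩
    · rintro ⟨m, ⟨hm, hq⟩, rfl⟩
      exact ⟨⟨m, hm, rfl⟩, (h m hm).2 hq⟩
  rw [he, Set.InjOn.ncard_image, ← List.coe_toFinset, Set.ncard_coe_finset,
    List.toFinset_card_of_nodup (hn.filter _), List.countP_eq_length_filter]
  intro a ha b hb e
  exact setOf24_injOn (hlt a (List.mem_of_mem_filter ha)) (hlt b (List.mem_of_mem_filter hb)) e

theorem ncard_octads_filter (P : Finset GolayPt → Prop) (q : ℕ → Bool)
    (h : ∀ m ∈ octadList, (P (setOf24 m) ↔ q m = true)) :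
    {s | s ∈ octads ∧ P s}.ncard = octadList.countP q := by
  rw [octads_eq]
  exact ncard_mask_image (nodup_of_incr octadList_incr) (fun _ hm => lt_of_mem_octadList hm) P q h

theorem ncard_dodecads_filter (P : Finset GolayPt → Prop) (q : ℕ → Bool)
    (h : ∀ m ∈ dodecadList, (P (setOf24 m) ↔ q m = true)) :
    {s | s ∈ dodecads ∧ P s}.ncard = dodecadList.countP q := by
  rw [dodecads_eq]
  exact ncard_mask_image (nodup_of_incr dodecadList_incr) (fun _ hm => lt_of_mem_dodecadList hm) P q h

theorem mem_gpGrp_m24 {σ : Perm GolayPt} : σ ∈ gpGrp m24Cert ↔ σ ∈ M24 := by rw [gpGrp_m24]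

/-- Counting is invariant under the group. -/
theorem ncard_transport {α : Type} [MulAction (Perm GolayPt) α] (g : Perm GolayPt)
    (P Q : α → Prop) (h : ∀ x, P x ↔ Q (g • x)) : {x | P x}.ncard = {x | Q x}.ncard := by
  have he : {x | Q x} = g • {x | P x} := by
    ext y
    rw [Set.mem_smul_set_iff_inv_smul_mem, Set.mem_setOf_eq, Set.mem_setOf_eq, h, smul_inv_smul]
  rw [he, Set.ncard_smul_set]

theorem mem_octads_smul_iff {g : Perm GolayPt} (hg : g ∈ M24) (o : Finset GolayPt) :
    g • o ∈ octads ↔ o ∈ octads :=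
  ⟨fun h => inv_smul_smul g o ▸ smul_mem_octads (inv_mem hg) h, smul_mem_octads hg⟩

theorem mem_dodecads_smul_iff {g : Perm GolayPt} (hg : g ∈ M24) (o : Finset GolayPt) :
    g • o ∈ dodecads ↔ o ∈ dodecads :=
  ⟨fun h => inv_smul_smul g o ▸ smul_mem_dodecads (inv_mem hg) h, smul_mem_dodecads hg⟩

theorem card_inter_smul (g : Perm GolayPt) (a b : Finset GolayPt) :
    (g • a ∩ g • b).card = (a ∩ b).card := by
  rw [← Finset.smul_finset_inter, Finset.card_smul_finset]

theorem smul_mem_smul_pt (g : Perm GolayPt) (p : GolayPt) (s : Finset GolayPt) :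
    g p ∈ g • s ↔ p ∈ s := Finset.smul_mem_smul_finset_iff g

/-- A set of at most five points can be moved to any other of its size. -/
theorem exists_smul_small {s t : Finset GolayPt} (h : s.card = t.card) (h5 : s.card ≤ 5) :
    ∃ g ∈ M24, g • s = t := by
  classical
  obtain ⟨x, hx⟩ := exists_tuple s.toList s.nodup_toList (by simpa using h5)
  obtain ⟨y, hy⟩ := exists_tuple t.toList t.nodup_toList (by simpa [← h] using h5)
  obtain ⟨g, hg⟩ := MulAction.isMultiplyPretransitive_iff.mp M24_multiplyPretransitive x y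
  refine ⟨g, g.2, Finset.eq_of_subset_of_card_le (fun p hp => ?_)
    (by rw [Finset.card_smul_finset, h])⟩
  obtain ⟨q, hq, rfl⟩ := Finset.mem_smul_finset.1 hp
  obtain ⟨j, hj, rfl⟩ := List.getElem_of_mem (Finset.mem_toList.2 hq)
  have h1 := DFunLike.congr_fun hg ⟨j, by simp at hj; omega⟩
  rw [Function.Embedding.smul_apply, hx j hj, hy j (by simp at hj ⊢; omega)] at h1
  rw [show (g : Perm GolayPt) • (s.toList[j]) = g • (s.toList[j]) from rfl, h1]
  exact Finset.mem_toList.1 (List.getElem_mem _)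

theorem exists_smul_pair {p q : GolayPt} (hpq : p ≠ q) {i j : Fin 24} (hij : i ≠ j) :
    ∃ g ∈ M24, g p = enc.symm i ∧ g q = enc.symm j := by
  obtain ⟨a, ha0, ha1⟩ := exists_smul_two hpq
  obtain ⟨b, hb0, hb1⟩ := exists_smul_two (enc.symm.injective.ne hij)
  refine ⟨(b : Perm GolayPt) * (a : Perm GolayPt)⁻¹, mul_mem b.2 (inv_mem a.2), ?_, ?_⟩
  · rw [Perm.mul_apply, show (a : Perm GolayPt)⁻¹ p = enc.symm 0 by
      rw [Perm.inv_eq_iff_eq]; exact ha0.symm]
    exact hb0
  · rw [Perm.mul_apply, show (a : Perm GolayPt)⁻¹ q = enc.symm 1 by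
      rw [Perm.inv_eq_iff_eq]; exact ha1.symm]
    exact hb1

/-- Elements of the family coded by a key. -/
theorem mem_family {n k : ℕ} {s : Finset GolayPt} :
    s ∈ (familyCoding n).dec k ↔ ∃ m ∈ unpack n k, setOf24 m = s := by
  simp [familyCoding]

theorem card_family {n k : ℕ} (hk : (familyCoding n).good k = true) :
    ((familyCoding n).dec k).card = n := by
  have h : incr (unpack n k) = true := by
    simp only [familyCoding, Bool.and_eq_true] at hk
    exact hk.2
  show ((unpack n k).map setOf24).toFinset.card = n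
  rw [List.toFinset_card_of_nodup, List.length_map, length_unpack]
  exact List.Nodup.map_on (fun a ha b hb e =>
    setOf24_injOn (lt_of_mem_unpack ha) (lt_of_mem_unpack hb) e) (nodup_of_incr h)

/-- The key of a family of masks. -/
def famKey (l : List ℕ) : ℕ := pack (isort l)

theorem dec_famKey {n : ℕ} {l : List ℕ} (hlt : ∀ m ∈ l, m < 16777216) (hn : l.length = n) :
    (familyCoding n).dec (famKey l) = (l.map setOf24).toFinset := by
  have hu : unpack n (pack (isort l)) = isort l := by
    have := unpack_pack (l := isort l) (fun m hm => hlt m (mem_isort.1 hm))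
    rwa [length_isort, hn] at this
  ext s
  simp [familyCoding, famKey, hu, mem_isort]

end Cfsg.Agent.Lib.GolayOrbit
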