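import Cfsg.Agent.Lib.Golay.Basic

/-!
# Orbit partitions labelled by an invariant; isomorphisms of stabilisers
-/

set_option autoImplicit false

namespace Cfsg.Agent.Lib.GolayOrbit

open Cfsg Cfsg.Agent.Lib.Compute Equiv
open scoped Pointwise

variable {α : Type} [MulAction (Perm GolayPt) α]

/-- Every element of `L` lies in one of the trees carrying its label. -/
noncomputable def partOk (f : ℕ → ℕ) (parts : List (OTree × ℕ × ℕ)) (L : List ℕ) : Bool :=
  L.all fun x => parts.any fun e => Nat.beq (f x) e.2.2 && e.1.mem x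

/-- The orbit checks of the parts. -/
noncomputable def partsOk (C : Coding α) (gens : List Gen) (parts : List (OTree × ℕ × ℕ)) : Bool :=
  parts.all fun e => orbOk C.img C.good gens e.2.1 e.1

theorem rel_of_partition (C : Coding α) {c : List Lvl} {gens : List Gen} (hG : GensFor c gens)
    {f : ℕ → ℕ} {parts : List (OTree × ℕ × ℕ)} {L : List ℕ}
    (ho : partsOk C gens parts = true) (hc : partOk f parts L = true)
    (hd : (parts.map fun e => e.2.2).Nodup) {a b : ℕ} (ha : a ∈ L) (hb : b ∈ L) (hab : f a = f b) :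
    ∃ σ ∈ gpGrp c, σ • C.dec a = C.dec b := by
  simp only [partOk, List.all_eq_true, List.any_eq_true, Bool.and_eq_true] at hc
  simp only [partsOk, List.all_eq_true] at ho
  obtain ⟨e, he, hfa, hma⟩ := hc a ha
  obtain ⟨e', he', hfb, hmb⟩ := hc b hb
  have : e = e' := List.inj_on_of_nodup_map hd he he'
    (by rw [← Nat.eq_of_beq_eq_true hfa, ← Nat.eq_of_beq_eq_true hfb, hab])
  subst this
  exact exists_smul_eq C hG (ho e he) hma hmb

/-- An element of the labelled orbit with a given label. -/
theorem StabCert.stabilizer_M24 {C : Coding α} {c' : List Lvl} {gens gens' : List Gen} {x0 : ℕ}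
    {t : OTree} (S : StabCert C m24Cert c' gens gens' x0 t) (g : ↥M24) :
    g ∈ MulAction.stabilizer M24 (C.dec x0) ↔ (g : Perm GolayPt) ∈ gpGrp c' := by
  rw [MulAction.mem_stabilizer_iff, S.stab_iff, gpGrp_m24]
  exact ⟨fun h => ⟨g.2, h⟩, fun h => h.2⟩

/-- A subgroup of `M24` with the elements of a certified group is that group. -/
noncomputable def equivGpGrp {c' : List Lvl} (S : Subgroup ↥M24)
    (h : ∀ g : ↥M24, g ∈ S ↔ (g : Perm GolayPt) ∈ gpGrp c')
    (hle : gpGrp c' ≤ M24) : S ≃* gpGrp c' :=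
  (MulEquiv.subgroupCongr (Subgroup.ext h : S = (gpGrp c').subgroupOf M24)).trans
    (Subgroup.subgroupOfEquivOfLe hle)

theorem StabCert.le {C : Coding α} {c c' : List Lvl} {gens gens' : List Gen} {x0 : ℕ}
    {t : OTree} (S : StabCert C c c' gens gens' x0 t) : gpGrp c' ≤ gpGrp c :=
  fun σ hσ => ((S.stab_iff σ).1 hσ).1

theorem StabCert.card_stabilizer {C : Coding α} {c' : List Lvl} {gens gens' : List Gen} {x0 : ℕ}
    {t : OTree} (S : StabCert C m24Cert c' gens gens' x0 t) :
    Nat.card (MulAction.stabilizer M24 (C.dec x0)) = certOrder c' := by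
  rw [Nat.card_congr (equivGpGrp _ S.stabilizer_M24 (gpGrp_m24 ▸ S.le)).toEquiv,
    card_gpGrp S.chk_c']

/-- Maximality of a stabiliser in `M24`. -/
theorem StabCert.isCoatom_stabilizer {C : Coding α} {c' : List Lvl} {gens gens' : List Gen} {x0 : ℕ}
    {t : OTree} (S : StabCert C m24Cert c' gens gens' x0 t) (subs : List SubData)
    (hsub : subs.all (fun e => e.ok C m24Cert gens' x0 t) = true)
    (hcov : t.allNodes (fun k _ _ _ => Nat.beq k x0 || subs.any fun e => e.sub.mem k) = true)
    (hlt : certOrder c' < 244823040) : IsCoatom (MulAction.stabilizer M24 (C.dec x0)) := by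
  refine ⟨fun h => ?_, fun K hK => ?_⟩
  · have := S.card_stabilizer
    rw [h, Subgroup.card_top, card_M24] at this
    omega
  · have hmap : gpGrp c' < K.map M24.subtype := by
      rw [lt_iff_le_and_ne]
      refine ⟨fun σ hσ => ?_, fun h => ?_⟩
      · have hσM : σ ∈ M24 := gpGrp_m24 ▸ S.le hσ
        exact ⟨⟨σ, hσM⟩, hK.le ((S.stabilizer_M24 ⟨σ, hσM⟩).2 hσ), rfl⟩
      · obtain ⟨k, hk, hk'⟩ := SetLike.exists_of_lt hK
        refine hk' ((S.stabilizer_M24 k).2 ?_)
        rw [h]
        exact ⟨k, hk, rfl⟩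
    have htop := S.eq_top_of_suborbits subs (List.all_eq_true.1 hsub) hcov (K.map M24.subtype) hmap
      (by rw [gpGrp_m24]; exact Subgroup.map_subtype_le K)
    rw [eq_top_iff]
    intro k _
    have : (k : Perm GolayPt) ∈ K.map M24.subtype := by rw [htop, gpGrp_m24]; exact k.2
    obtain ⟨k', hk', he⟩ := this
    rwa [Subtype.ext he] at hk'

/-- Transporting maximality along the action. -/
theorem isCoatom_stabilizer_smul {β : Type} [MulAction ↥M24 β] (g : ↥M24) {x y : β} (h : g • x = y)
    (hx : IsCoatom (MulAction.stabilizer M24 x)) : IsCoatom (MulAction.stabilizer M24 y) := by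
  subst h
  rw [MulAction.stabilizer_smul_eq_stabilizer_map_conj]
  exact ((MulEquiv.mapSubgroup (MulAut.conj g)).isCoatom_iff _).2 hx

theorem card_stabilizer_smul {β : Type} [MulAction ↥M24 β] (g : ↥M24) {x y : β} (h : g • x = y) :
    Nat.card (MulAction.stabilizer M24 y) = Nat.card (MulAction.stabilizer M24 x) := by
  subst h
  rw [MulAction.stabilizer_smul_eq_stabilizer_map_conj]
  exact (Nat.card_congr ((MulAut.conj g).subgroupMap _).toEquiv).symm

end Cfsg.Agent.Lib.GolayOrbit
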