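import Cfsg.Agent.Lib.Golay.OctPtOutData
import Cfsg.Agent.Lib.Golay.Partition

/-!
# Orbits of octPtOutCert
-/

set_option autoImplicit false

namespace Cfsg.Agent.Lib.GolayOrbit

open Cfsg Cfsg.Agent.Lib.Compute
open scoped Pointwise


/-- an orbit of size 1 -/
def octPtOutOrb0 : OTree :=
  .node .leaf 5279 0 0 0 .leaf

/-- part of `octPtOutOrb1` -/
def octPtOutOrb1P0 : OTree :=
  .node (.node (.node (.node (.node (.node .leaf 39257 0 0 0 .leaf) 57883 39257 0 1 (.node .leaf 69395 9506893 0 7 .leaf)) 95313 272595 1 5 (.node (.node .leaf 99029 8398155 0 5 .leaf) 140167 1182989 1 7 .leaf)) 153797 2204803 0 8 (.node (.node (.node .leaf 185603 3182981 0 7 .leaf) 210955 10557585 0 3 (.node .leaf 272595 210955 0 4 .leaf)) 283537 1212619 0 7 (.node (.node .leaf 304405 12717187 1 6 .leaf) 346141 4470275 1 10 .leaf))) 418953 5511305 1 5 (.node (.node (.node (.node .leaf 430605 2229713 0 8 .leaf) 459847 5252293 1 4 (.node .leaf 530245 5252293 0 4 .leaf)) 551943 2363013 1 6 (.node (.node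 .leaf 563843 10486557 1 9 .leaf) 593097 2110153 1 2 .leaf)) 622863 10630149 1 6 (.node (.node (.node .leaf 663645 3152963 1 7 .leaf) 737427 3416079 1 7 .leaf) 806987 4370577 0 6 (.node (.node .leaf 864389 12717187 0 6 .leaf) 924689 6488205 0 5 .leaf)))) 1063445 593097 0 3 (.node (.node (.node (.node (.node .leaf 1065303 1618953 0 4 .leaf) 1100945 8716939 1 4 (.node .leaf 1122713 210955 1 4 .leaf)) 1182989 1250945 1 6 (.node (.node .leaf 1212619 2634003 0 6 .leaf) 1250945 1122713 1 5 .leaf)) 1312345 663645 0 8 (.node (.node (.node .leaf 1413139 12656663 1 8 .leaf) 1589901 2430217 1 7 .leaf) 1618953 10557585 1 3 (.node (.node .leaf 1836419 6488205 1 5 .leaf) 2110153 39257 1 1 .leaf))) 2115979 430605 1 9 (.node (.node (.node (.node .leaf 2147405 8688833 1 4 .leaf) 2183687 8688833 0 4 (.node .leaf 2204803 8657159 0 7 .leaf)) 2229713 1212619 1 7 (.node (.node .leaf 2263063 9471495 1 6 .leaf) 2363013 459847 0 5 .leaf)) 2430217 4370577 1 6 (.node (.node (.node .leaf 2634003 5511305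 0 5 .leaf) 2754059 6557781 0 7 .leaf) 2916505 14716939 1 8 (.node (.node .leaf 3152963 99029 1 6 .leaf) 3182981 1836419 0 6 .leaf))))

/-- part of `octPtOutOrb1` -/
def octPtOutOrb1P1 : OTree :=
  .node (.node (.node (.node (.node (.node .leaf 3416079 924689 0 6 .leaf) 3736597 13370381 0 7 (.node .leaf 4196943 530245 1 5 .leaf)) 4223245 1100945 0 5 (.node (.node .leaf 4229001 1065303 0 5 .leaf) 4264387 663645 1 8 .leaf)) 4299781 8471941 0 7 (.node (.node (.node .leaf 4343317 2147405 0 5 .leaf) 4370577 9963547 1 5 (.node .leaf 4470275 4721045 1 9 .leaf)) 4505735 13370381 1 7 (.node (.node .leaf 4587803 5902343 1 9 .leaf) 4721045 2754059 1 8 .leaf))) 4752467 11010247 1 6 (.node (.node (.node (.node .leaf 4788761 12599513 0 3 .leaf) 5252293 593097 1 3 (.node .leaf 5325835 864389 1 7 .leaf)) 5511305 4788761 1 4 (.node (.node .leaf 5902343 3736597 1 8 .leaf) 6302745 563843 1 10 .leaf)) 6488205 1618953 1 4 (.node (.node (.node .leaf 6557781 418953 0 6 .leaf) 6837377 4505735 0 8 .leaf)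 7340691 806987 0 7 (.node (.node .leaf 8398155 1063445 0 4 .leaf) 8412681 99029 0 6 .leaf)))) 8431757 8412681 1 7 (.node (.node (.node (.node (.node .leaf 8471941 418953 1 6 .leaf) 8524371 2110153 0 2 (.node .leaf 8619033 10486557 0 9 .leaf)) 8657159 4343317 1 6 (.node (.node .leaf 8688833 12599513 1 3 .leaf) 8716939 8524371 0 3 .leaf)) 8922769 4196943 0 6 (.node (.node (.node .leaf 8966165 4229001 0 6 .leaf) 9048457 7340691 0 8 .leaf) 9465987 563843 0 10 (.node (.node .leaf 9471495 530245 0 5 .leaf) 9506893 95313 1 6 .leaf))) 9830549 2754059 0 8 (.node (.node (.node (.node .leaf 9963547 4788761 0 4 .leaf) 10486557 185603 1 8 (.node .leaf 10557585 57883 1 2 .leaf)) 10630149 1100945 1 5 (.node (.node .leaf 10765331 4505735 1 8 .leaf) 11010247 2147405 1 5 .leaf)) 12599513 57883 0 2 (.node (.node (.node .leaf 12656663 8412681 0 7 .leaf) 12717187 2183687 0 5 .leaf) 13370381 4343317 0 6 (.node (.node .leaf 13636881 1589901 0 8 .leaf) 14716939 8966165 1 7 .leaf))))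

/-- an orbit of size 105 -/
def octPtOutOrb1 : OTree :=
  .node octPtOutOrb1P0 3297305 2916505 0 9 octPtOutOrb1P1

/-- part of `octPtOutOrb2` -/
def octPtOutOrb2P0 : OTree :=
  .node (.node (.node (.node (.node (.node .leaf 175681 0 0 0 .leaf) 213833 11575377 0 4 .leaf) 493953 11731203 0 7 (.node .leaf 582081 5286147 0 5 .leaf)) 797449 5441617 0 4 (.node (.node .leaf 902657 12747077 0 6 .leaf) 1302533 9776129 1 5 (.node .leaf 1454401 5441617 1 4 .leaf))) 1460739 2854977 0 5 (.node (.node (.node (.node .leaf 1647171 2173253 1 2 .leaf) 1661185 2564625 1 6 .leaf) 1737489 7864649 0 6 (.node .leaf 1869893 14747201 1 3 .leaf)) 2173253 175681 1 1 (.node (.node .leaf 2392899 1454401 0 5 .leaf) 2422785 12880401 1 6 (.node .leaf 2564625 5286147 1 5 .leaf)))) 2640465 4563017 0 6 (.node (.node (.node (.node (.node .leaf 2854977 11575377 1 4 .leaf) 3031301 7767041 0 9 .leaf) 3172097 1869893 0 4 (.node .leaf 3246601 8499969 1 5 .leaf)) 3489985 4563017 1 6 (.node (.node .leaf 3811457 3246601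 1 6 .leaf) 4287105 8505411 0 3 (.node .leaf 4476225 1302533 0 6 .leaf))) 4563017 13121601 1 5 (.node (.node (.node (.node .leaf 4900873 12325377 1 7 .leaf) 4924673 3811457 1 7 .leaf) 5112513 6447171 0 5 (.node .leaf 5286147 9112069 1 4 .leaf)) 5296705 582081 0 6 (.node (.node .leaf 5441617 1647171 1 3 .leaf) 5571333 10110017 0 8 (.node .leaf 6053905 4900873 0 8 .leaf))))

/-- part of `octPtOutOrb2` -/
def octPtOutOrb2P1 : OTree :=
  .node (.node (.node (.node (.node (.node .leaf 6429441 3489985 0 7 .leaf) 6447171 1869893 1 4 .leaf) 6857221 4476225 0 7 (.node .leaf 7145475 6857221 1 8 .leaf)) 7767041 14254209 1 8 (.node (.node .leaf 7864649 2854977 1 5 .leaf) 8499969 9440193 0 4 (.node .leaf 8505411 8675909 1 2 .leaf))) 8546577 1460739 1 6 (.node (.node (.node (.node .leaf 8675909 175681 0 1 .leaf) 9112069 14747201 0 3 .leaf) 9240913 6447171 1 5 (.node .leaf 9347075 15747077 1 8 .leaf)) 9440193 1647171 0 3 (.node (.node .leaf 9748745 1737489 0 7 .leaf) 9776129 9112069 0 4 (.node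 .leaf 10110017 3489985 1 7 .leaf)))) 10666625 2392899 0 6 (.node (.node (.node (.node (.node .leaf 10881097 2564625 0 6 .leaf) 11046145 10666625 1 7 .leaf) 11100169 12880401 0 6 (.node .leaf 11575377 8505411 1 3 .leaf)) 11731203 1302533 1 6 (.node (.node .leaf 12325377 5112513 0 6 .leaf) 12747077 3172097 0 5 (.node .leaf 12880401 213833 0 5 .leaf))) 13062145 10666625 0 7 (.node (.node (.node .leaf 13121601 4287105 0 4 .leaf) 13124355 5296705 0 7 (.node .leaf 13771273 1661185 1 7 .leaf)) 14254209 11100169 1 7 (.node (.node .leaf 14747201 8675909 0 2 .leaf) 14950785 1460739 0 6 (.node .leaf 15747077 902657 0 7 .leaf))))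

/-- an orbit of size 70 -/
def octPtOutOrb2 : OTree :=
  .node octPtOutOrb2P0 6406417 9748745 0 8 octPtOutOrb2P1

/-- the orbits with their labels -/
def octPtOutParts : List (OTree × ℕ × ℕ) := [(octPtOutOrb0, 5279, 8), (octPtOutOrb1, 39257, 4), (octPtOutOrb2, 175681, 2)]

theorem octPtOutParts_ok : partsOk maskCoding octPtOutCertGens octPtOutParts = true := by decide +kernel

end Cfsg.Agent.Lib.GolayOrbit
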