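import Cfsg.Agent.Lib.Golay.OctPtPtData
import Cfsg.Agent.Lib.Golay.Partition

/-!
# Orbits of octPtPtCert
-/

set_option autoImplicit false

namespace Cfsg.Agent.Lib.GolayOrbit

open Cfsg Cfsg.Agent.Lib.Compute
open scoped Pointwise


/-- an orbit of size 1 -/
def octPtPtOrb0 : OTree :=
  .node .leaf 5279 0 0 0 .leaf

/-- part of `octPtPtOrb1` -/
def octPtPtOrb1P0 : OTree :=
  .node (.node (.node (.node (.node .leaf 18147 0 0 0 .leaf) 45159 1053483 1 6 (.node .leaf 57883 8421811 1 6 .leaf)) 69395 2754059 0 6 (.node (.node .leaf 140167 298027 1 3 .leaf) 185603 8657159 1 6 (.node .leaf 210955 4216883 1 4 .leaf))) 272595 18147 1 1 (.node (.node (.node .leaf 298027 1065303 1 2 .leaf) 459847 4726955 0 7 (.node .leaf 551943 8536111 1 4 .leaf)) 563843 2263063 0 6 (.node (.node .leaf 622863 4587803 1 3 .leaf) 737427 551943 0 5 (.node .leaf 786999 12717187 0 6 .leaf)))) 806987 4216883 0 4 (.node (.node (.node (.node .leaf 1053483 1413139 1 5 .leaf) 1065303 18147 0 1 (.node .leaf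 1116327 5325835 1 6 .leaf)) 1188915 1116327 1 7 (.node (.node .leaf 1212619 69395 1 7 .leaf) 1413139 4752467 0 4 (.node .leaf 1836419 459847 1 8 .leaf))) 2115979 2183687 0 7 (.node (.node (.node .leaf 2162811 8983587 0 4 .leaf) 2183687 737427 0 6 (.node .leaf 2204803 622863 0 4 .leaf)) 2263063 2204803 0 5 (.node (.node .leaf 2494627 3152963 1 6 .leaf) 2634003 69395 0 7 .leaf)))

/-- part of `octPtPtOrb1` -/
def octPtPtOrb1P1 : OTree :=
  .node (.node (.node (.node (.node .leaf 3152963 2162811 0 5 .leaf) 3416079 2162811 1 5 (.node .leaf 4196943 2494627 0 7 .leaf)) 4216883 9465987 1 3 (.node (.node .leaf 4264387 4470275 1 4 .leaf) 4470275 4587803 0 3 (.node .leaf 4505735 8398155 1 7 .leaf))) 4587803 272595 1 2 (.node (.node (.node .leaf 4726955 8657159 0 6 .leaf) 4752467 298027 0 3 (.node .leaf 5325835 806987 0 5 .leaf)) 5902343 272595 0 2 (.node (.node .leaf 6292775 8716939 0 4 .leaf) 7340691 2204803 1 5 .leaf))) 8398155 1053483 0 6 (.node (.node (.node (.node .leaf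 8421811 9471495 0 5 .leaf) 8524371 563843 1 7 (.node .leaf 8536111 9465987 0 3 .leaf)) 8657159 806987 1 5 (.node (.node .leaf 8716939 5902343 0 3 .leaf) 8983587 5902343 1 3 (.node .leaf 9465987 1065303 0 2 .leaf))) 9471495 622863 1 4 (.node (.node (.node .leaf 9963547 737427 1 6 .leaf) 10765331 5325835 0 6 (.node .leaf 11010247 2754059 1 6 .leaf)) 12656663 4726955 1 7 (.node (.node .leaf 12717187 551943 1 5 .leaf) 14716939 1413139 0 5 .leaf)))

/-- an orbit of size 60 -/
def octPtPtOrb1 : OTree :=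
  .node octPtPtOrb1P0 2754059 210955 0 5 octPtPtOrb1P1

/-- part of `octPtPtOrb2` -/
def octPtPtOrb2P0 : OTree :=
  .node (.node (.node (.node .leaf 352547 0 0 0 .leaf) 657763 1460739 1 3 .leaf) 1460739 6447171 0 2 (.node .leaf 1647171 4424227 1 3 .leaf)) 2392899 4424227 0 3 (.node (.node .leaf 3719203 11731203 1 4 .leaf) 4424227 5286147 1 2 (.node .leaf 5286147 352547 1 1 .leaf))

/-- part of `octPtPtOrb2` -/
def octPtPtOrb2P1 : OTree :=
  .node (.node (.node .leaf 7145475 6447171 1 2 .leaf) 8505411 13124355 1 4 (.node .leaf 9347075 5286147 0 2 .leaf)) 10496547 11731203 0 4 (.node (.node .leaf 11731203 7145475 1 3 .leaf) 13124355 1460739 0 3 (.node .leaf 13893731 1647171 1 4 .leaf))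

/-- an orbit of size 16 -/
def octPtPtOrb2 : OTree :=
  .node octPtPtOrb2P0 6447171 352547 0 1 octPtPtOrb2P1

/-- the orbits with their labels -/
def octPtPtParts : List (OTree × ℕ × ℕ) := [(octPtPtOrb0, 5279, 8), (octPtPtOrb1, 18147, 4), (octPtPtOrb2, 352547, 2)]

theorem octPtPtParts_ok : partsOk maskCoding octPtPtCertGens octPtPtParts = true := by decide +kernel

end Cfsg.Agent.Lib.GolayOrbit
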