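import Cfsg.Agent.Lib.Golay.OctadData
import Cfsg.Agent.Lib.Golay.OctadSub
import Cfsg.Agent.Lib.Golay.DodecadData
import Cfsg.Agent.Lib.Golay.DodecadSub

/-!
# Octads and dodecads relative to the base octad and base dodecad
-/

set_option autoImplicit false

namespace Cfsg.Agent.Lib.GolayOrbit

open Cfsg Cfsg.Agent.Lib.Compute Equiv
open scoped Pointwise

/-- The base octad. -/
def baseOctad : Finset GolayPt := setOf24 oct0

/-- The base dodecad. -/
def baseDodecad : Finset GolayPt := setOf24 dod0

theorem oct0_mem : oct0 ∈ octadList := by decide +kernel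

theorem dod0_mem : dod0 ∈ dodecadList := by decide +kernel

theorem octTree_keys : octTree.keys = octadList := by decide +kernel

theorem dodTree_keys : dodTree.keys = dodecadList := by decide +kernel

theorem baseOctad_mem : baseOctad ∈ octads := mem_octads_of_mask oct0_mem

theorem baseDodecad_mem : baseDodecad ∈ dodecads := mem_dodecads_of_mask dod0_mem

theorem exists_to_baseOctad {o : Finset GolayPt} (ho : o ∈ octads) :
    ∃ g ∈ M24, g • o = baseOctad := by
  obtain ⟨m, hm, rfl⟩ := exists_octad_mask ho
  obtain ⟨g, hg, he⟩ := octCert_stab.exists_to_base (k := m) (octTree_keys ▸ hm)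
  exact ⟨g, mem_gpGrp_m24.1 hg, he⟩

theorem exists_to_baseDodecad {d : Finset GolayPt} (hd : d ∈ dodecads) :
    ∃ g ∈ M24, g • d = baseDodecad := by
  obtain ⟨m, hm, rfl⟩ := exists_dodecad_mask hd
  obtain ⟨g, hg, he⟩ := dodCert_stab.exists_to_base (k := m) (dodTree_keys ▸ hm)
  exact ⟨g, mem_gpGrp_m24.1 hg, he⟩

theorem mem_octCert {σ : Perm GolayPt} :
    σ ∈ gpGrp octCert ↔ σ ∈ M24 ∧ σ • baseOctad = baseOctad := by
  rw [← mem_gpGrp_m24]
  exact octCert_stab.stab_iff σ

theorem mem_dodCert {σ : Perm GolayPt} :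
    σ ∈ gpGrp dodCert ↔ σ ∈ M24 ∧ σ • baseDodecad = baseDodecad := by
  rw [← mem_gpGrp_m24]
  exact dodCert_stab.stab_iff σ

theorem octadParts_cover : partOk (fun k => popN (k &&& oct0)) octadParts octadList = true := by
  decide +kernel

theorem dodecadParts_cover : partOk (fun k => popN (k &&& dod0)) dodecadParts dodecadList = true := by
  decide +kernel

/-- Octads meeting the base octad in equally many points are conjugate under its stabiliser. -/
theorem octad_rel {a b : Finset GolayPt} (ha : a ∈ octads) (hb : b ∈ octads)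
    (h : (baseOctad ∩ a).card = (baseOctad ∩ b).card) :
    ∃ g ∈ M24, g • baseOctad = baseOctad ∧ g • a = b := by
  obtain ⟨m, hm, rfl⟩ := exists_octad_mask ha
  obtain ⟨n, hn, rfl⟩ := exists_octad_mask hb
  rw [Finset.inter_comm, baseOctad, card_setOf24_and, Finset.inter_comm, card_setOf24_and] at h
  obtain ⟨g, hg, he⟩ := rel_of_partition maskCoding octCert_gensFor octadParts_ok octadParts_cover
    (by decide +kernel) hm hn h
  exact ⟨g, (mem_octCert.1 hg).1, (mem_octCert.1 hg).2, he⟩

/-- Dodecads meeting the base dodecad in equally many points are conjugate under its stabiliser. -/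
theorem dodecad_rel {a b : Finset GolayPt} (ha : a ∈ dodecads) (hb : b ∈ dodecads)
    (h : (baseDodecad ∩ a).card = (baseDodecad ∩ b).card) :
    ∃ g ∈ M24, g • baseDodecad = baseDodecad ∧ g • a = b := by
  obtain ⟨m, hm, rfl⟩ := exists_dodecad_mask ha
  obtain ⟨n, hn, rfl⟩ := exists_dodecad_mask hb
  rw [Finset.inter_comm, baseDodecad, card_setOf24_and, Finset.inter_comm, card_setOf24_and] at h
  obtain ⟨g, hg, he⟩ := rel_of_partition maskCoding dodCert_gensFor dodecadParts_ok dodecadParts_cover
    (by decide +kernel) hm hn h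
  exact ⟨g, (mem_dodCert.1 hg).1, (mem_dodCert.1 hg).2, he⟩

end Cfsg.Agent.Lib.GolayOrbit
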