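import Cfsg.Agent.Lib.Compute.GolayFacts

/-!
# Kernel-checkable orbit certificates for groups of permutations of the 24 points

An `OTree` is a search tree of orbit elements, each coded as a natural number, with for each
element a parent, the number of a generator mapping the parent to it and a depth.
`orbOk` is meant to be proved by `decide +kernel`.
-/

set_option autoImplicit false

namespace Cfsg.Agent.Lib.GolayOrbit

open Cfsg Cfsg.Agent.Lib.Compute Equiv
open scoped Pointwise

/-- A search tree of orbit elements. -/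
inductive OTree
  | leaf
  | node (l : OTree) (key par gen depth : ℕ) (r : OTree)

namespace OTree

/-- The keys, in order, prepended to an accumulator. -/
noncomputable def keysAux (t : OTree) : List ℕ → List ℕ :=
  OTree.rec (motive := fun _ => List ℕ → List ℕ) (fun acc => acc)
    (fun _ k _ _ _ _ ihl ihr acc => ihl (k :: ihr acc)) t

/-- The keys, in order. -/
noncomputable def keys (t : OTree) : List ℕ := keysAux t []

/-- Search for a key satisfying a test on its depth. -/
noncomputable def find (f : ℕ → Bool) (t : OTree) : ℕ → Bool :=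
  OTree.rec (motive := fun _ => ℕ → Bool) (fun _ => false)
    (fun _ v _ _ d _ ihl ihr k =>
      bif Nat.beq k v then f d else bif Nat.blt k v then ihl k else ihr k) t

/-- Membership. -/
noncomputable def mem (t : OTree) (k : ℕ) : Bool := t.find (fun _ => true) k

/-- A test on all nodes. -/
noncomputable def allNodes (f : ℕ → ℕ → ℕ → ℕ → Bool) (t : OTree) : Bool :=
  OTree.rec (motive := fun _ => Bool) true
    (fun _ k p g d _ ihl ihr => f k p g d && ihl && ihr) t

theorem find_leaf (f : ℕ → Bool) (k : ℕ) : find f leaf k = false := rfl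

theorem find_node (f : ℕ → Bool) (l r : OTree) (v q e d k : ℕ) :
    find f (node l v q e d r) k =
      bif Nat.beq k v then f d else bif Nat.blt k v then find f l k else find f r k := rfl

theorem allNodes_node (f : ℕ → ℕ → ℕ → ℕ → Bool) (l r : OTree) (k p g d : ℕ) :
    allNodes f (node l k p g d r) = (f k p g d && allNodes f l && allNodes f r) := rfl

theorem keysAux_eq : ∀ (t : OTree) (acc : List ℕ), keysAux t acc = keysAux t [] ++ acc
  | leaf, acc => rfl
  | node l k p g d r, acc => by
    show keysAux l (k :: keysAux r acc) = keysAux l (k :: keysAux r []) ++ acc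
    rw [keysAux_eq l, keysAux_eq r acc, keysAux_eq l (k :: keysAux r [])]
    simp

theorem keys_leaf : keys leaf = [] := rfl

theorem keys_node (l r : OTree) (k p g d : ℕ) :
    keys (node l k p g d r) = l.keys ++ k :: r.keys := by
  show keysAux l (k :: keysAux r []) = _
  rw [keysAux_eq]
  rfl

/-- The nodes. -/
def InTree : OTree → ℕ → ℕ → ℕ → ℕ → Prop
  | leaf, _, _, _, _ => False
  | node l v q h e r, k, p, g, d =>
      InTree l k p g d ∨ (k = v ∧ p = q ∧ g = h ∧ d = e) ∨ InTree r k p g d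

theorem exists_node_of_find {f : ℕ → Bool} : ∀ {t : OTree} {k : ℕ}, t.find f k = true →
    ∃ p g d, InTree t k p g d ∧ f d = true
  | leaf, k, h => by simp [find_leaf] at h
  | node l v q e d r, k, h => by
    rw [find_node] at h
    cases hb : Nat.beq k v with
    | true =>
      rw [hb] at h
      exact ⟨q, e, d, Or.inr (Or.inl ⟨Nat.eq_of_beq_eq_true hb, rfl, rfl, rfl⟩), h⟩
    | false =>
      rw [hb, cond_false] at h
      cases hl : Nat.blt k v with
      | true =>
        rw [hl, cond_true] at h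
        obtain ⟨p, g, d', hn, hf⟩ := exists_node_of_find h
        exact ⟨p, g, d', Or.inl hn, hf⟩
      | false =>
        rw [hl, cond_false] at h
        obtain ⟨p, g, d', hn, hf⟩ := exists_node_of_find h
        exact ⟨p, g, d', Or.inr (Or.inr hn), hf⟩

theorem of_allNodes {f : ℕ → ℕ → ℕ → ℕ → Bool} : ∀ {t : OTree}, t.allNodes f = true →
    ∀ {k p g d : ℕ}, InTree t k p g d → f k p g d = true
  | leaf, _, _, _, _, _, h => h.elim
  | node l v q e d' r, h, k, p, g, d, hn => by
    simp only [allNodes_node, Bool.and_eq_true] at h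
    rcases hn with hn | ⟨rfl, rfl, rfl, rfl⟩ | hn
    · exact of_allNodes h.1.2 hn
    · exact h.1.1
    · exact of_allNodes h.2 hn

theorem mem_keys_iff : ∀ {t : OTree} {k : ℕ}, k ∈ t.keys ↔ ∃ p g d, InTree t k p g d
  | leaf, k => by simp [keys_leaf, InTree]
  | node l v q e d r, k => by
    simp only [keys_node, List.mem_append, List.mem_cons, mem_keys_iff (t := l), mem_keys_iff (t := r), InTree]
    constructor
    · rintro (⟨p, g, d', h⟩ | rfl | ⟨p, g, d', h⟩)
      · exact ⟨p, g, d', Or.inl h⟩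
      · exact ⟨q, e, d, Or.inr (Or.inl ⟨rfl, rfl, rfl, rfl⟩)⟩
      · exact ⟨p, g, d', Or.inr (Or.inr h)⟩
    · rintro ⟨p, g, d', h | ⟨h, -⟩ | h⟩
      · exact Or.inl ⟨p, g, d', h⟩
      · exact Or.inr (Or.inl h)
      · exact Or.inr (Or.inr ⟨p, g, d', h⟩)

theorem mem_keys_of_mem {t : OTree} {k : ℕ} (h : t.mem k = true) : k ∈ t.keys := by
  obtain ⟨p, g, d, hn, -⟩ := exists_node_of_find h
  exact mem_keys_iff.2 ⟨p, g, d, hn⟩

end OTree

/-- The certified group as a group of permutations of the 24 points. -/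
noncomputable def gpGrp (c : List Lvl) : Subgroup (Perm GolayPt) :=
  (grp 24 c).map toGP.toMonoidHom

theorem mem_gpGrp {c : List Lvl} {σ : Perm GolayPt} :
    σ ∈ gpGrp c ↔ ∃ τ ∈ grp 24 c, toGP τ = σ := Subgroup.mem_map

theorem card_gpGrp {c : List Lvl} (h : chk 24 c = true) : Nat.card (gpGrp c) = certOrder c := by
  rw [gpGrp, ← Nat.card_congr ((grp 24 c).equivMapOfInjective _ toGP.injective).toEquiv,
    card_grp h]

theorem gpGrp_m24 : gpGrp m24Cert = M24 := by
  rw [gpGrp, ← K24_eq]
  exact Subgroup.map_comap_eq_self_of_surjective toGP.surjective M24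

/-- The packed generators of the first level. -/
def gensOf : List Lvl → List ℕ
  | [] => []
  | L :: _ => L.gens.map Prod.fst

theorem valid_gensOf {c : List Lvl} (h : chk 24 c = true) {P : ℕ} (hP : P ∈ gensOf c) :
    Valid 24 P ∧ toGP (toPerm 24 P) ∈ gpGrp c := by
  cases c with
  | nil => simp [gensOf] at hP
  | cons L rest =>
    simp only [chk, Bool.and_eq_true] at h
    obtain ⟨g, hg, rfl⟩ := List.mem_map.1 hP
    obtain ⟨-, hok, -⟩ := lvlOk_iff h.1
    exact ⟨valid_of_genOk (hok g hg), Subgroup.mem_map_of_mem _ (gen_mem hg)⟩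

theorem gpGrp_le_of_gens {c : List Lvl} {K : Subgroup (Perm GolayPt)}
    (h : ∀ P ∈ gensOf c, toGP (toPerm 24 P) ∈ K) : gpGrp c ≤ K := by
  rw [gpGrp, Subgroup.map_le_iff_le_comap]
  cases c with
  | nil => simp [grp]
  | cons L rest =>
    refine (Subgroup.closure_le _).2 ?_
    rintro _ ⟨g, hg, rfl⟩
    exact h g.1 (List.mem_map.2 ⟨g, hg, rfl⟩)

/-- A generator: a packed permutation and its table of images of four-bit pieces of masks. -/
abbrev Gen : Type := ℕ × ℕ

/-- One entry of a table. -/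
def lk (T i : ℕ) : ℕ := Nat.land (Nat.shiftRight T (24 * i)) 16777215

/-- The image of a mask through a table. -/
def imgT (T m : ℕ) : ℕ :=
  Nat.lor (Nat.lor (Nat.lor (Nat.lor (Nat.lor (lk T (Nat.land m 15))
    (lk T (16 + Nat.land (Nat.shiftRight m 4) 15)))
    (lk T (32 + Nat.land (Nat.shiftRight m 8) 15)))
    (lk T (48 + Nat.land (Nat.shiftRight m 12) 15)))
    (lk T (64 + Nat.land (Nat.shiftRight m 16) 15)))
    (lk T (80 + Nat.land (Nat.shiftRight m 20) 15))

/-- The table belongs to the permutation. -/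
def tabOk (g : Gen) : Bool :=
  (List.range 6).all fun j => (List.range 16).all fun v =>
    Nat.beq (lk g.2 (16 * j + v)) (imgMask g.1 (v <<< (4 * j)))

/-- A generator with a valid permutation and a right table. -/
def GenValid (g : Gen) : Prop := Valid 24 g.1 ∧ tabOk g = true

/-- The permutation of a generator. -/
noncomputable def genPerm (g : Gen) : Perm GolayPt := toGP (toPerm 24 g.1)

/-- `gens` are valid, lie in the group of `c` and generate it. -/
structure GensFor (c : List Lvl) (gens : List Gen) : Prop where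
  valid : ∀ g ∈ gens, GenValid g
  mem : ∀ g ∈ gens, toPerm 24 g.1 ∈ grp 24 c
  le : grp 24 c ≤ Subgroup.closure (toPerm 24 '' {b | b ∈ gens.map Prod.fst})

/-- The check behind `GensFor`. -/
def genGood (c : List Lvl) (gens : List Gen) (wit : List (List ℕ))
    (steps : List (ℕ × ℕ × ℕ × Bool)) : Bool :=
  Nat.beq gens.length wit.length && (gens.zip wit).all (fun gw => memOk 24 c gw.1.1 gw.2) &&
    gens.all tabOk && slpOk 24 (gens.map Prod.fst) steps &&
    slpCovers (gens.map Prod.fst) steps c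

theorem gensFor_of_genGood {c : List Lvl} (hc : chk 24 c = true) {gens : List Gen}
    {wit : List (List ℕ)} {steps : List (ℕ × ℕ × ℕ × Bool)}
    (h : genGood c gens wit steps = true) : GensFor c gens := by
  simp only [genGood, Bool.and_eq_true, List.all_eq_true] at h
  obtain ⟨⟨⟨⟨hl, hw⟩, ht⟩, hslp⟩, hcov⟩ := h
  have hm : ∀ g ∈ gens, Valid 24 g.1 ∧ toPerm 24 g.1 ∈ grp 24 c := by
    intro g hg
    obtain ⟨i, hi, rfl⟩ := List.getElem_of_mem hg
    have hz := hw ((gens.zip wit)[i]'(by simp [← Nat.eq_of_beq_eq_true hl, hi])) (List.getElem_mem _)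
    rw [List.getElem_zip] at hz
    exact mem_grp_of_memOk hc hz
  refine ⟨fun g hg => ⟨(hm g hg).1, ht g hg⟩, fun g hg => (hm g hg).2,
    grp_le_closure (fun b hb => ?_) hslp hcov⟩
  obtain ⟨g, hg, rfl⟩ := List.mem_map.1 hb
  exact (hm g hg).1

theorem GensFor.genPerm_mem {c : List Lvl} {gens : List Gen} (hG : GensFor c gens) {g : Gen}
    (hg : g ∈ gens) : genPerm g ∈ gpGrp c :=
  Subgroup.mem_map_of_mem _ (hG.mem g hg)

/-- A coding of the points of an action by numbers. -/
structure Coding (α : Type) [MulAction (Perm GolayPt) α] where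
  /-- The decoded element. -/
  dec : ℕ → α
  /-- The action on codes. -/
  img : Gen → ℕ → ℕ
  /-- The valid codes. -/
  good : ℕ → Bool
  spec : ∀ g k, GenValid g → good k = true → dec (img g k) = genPerm g • dec k
  inj : ∀ a b, good a = true → good b = true → dec a = dec b → a = b

variable {α : Type} [MulAction (Perm GolayPt) α]

/-- The check of an orbit certificate. -/
noncomputable def orbOk (img : Gen → ℕ → ℕ) (good : ℕ → Bool) (gens : List Gen) (x0 : ℕ) (t : OTree) :
    Bool :=
  t.mem x0 && t.allNodes fun k p g d =>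
    good k && (gens.all fun P => t.mem (img P k)) &&
      ((Nat.beq d 0 && Nat.beq k x0) ||
        (t.find (fun e => Nat.blt e d) p &&
          match gens[g]? with
          | some P => Nat.beq (img P p) k
          | none => false))

/-- What `orbOk` gives. -/
theorem orb_reach (C : Coding α) {gens : List Gen} {x0 : ℕ} {t : OTree}
    (ho : orbOk C.img C.good gens x0 t = true) (hv : ∀ P ∈ gens, GenValid P)
    {H : Subgroup (Perm GolayPt)} (hmem : ∀ P ∈ gens, genPerm P ∈ H) :
    ∀ k ∈ t.keys, C.good k = true ∧ ∃ σ ∈ H, σ • C.dec x0 = C.dec k := by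
  simp only [orbOk, Bool.and_eq_true] at ho
  have key : ∀ d k p g, OTree.InTree t k p g d → C.good k = true ∧ ∃ σ ∈ H, σ • C.dec x0 = C.dec k := by
    intro d
    induction d using Nat.strong_induction_on with
    | _ d ih =>
      intro k p g hn
      have hf := OTree.of_allNodes ho.2 hn
      simp only [Bool.and_eq_true, Bool.or_eq_true] at hf
      obtain ⟨⟨hgood, -⟩, hstep⟩ := hf
      refine ⟨hgood, ?_⟩
      rcases hstep with ⟨-, hk⟩ | ⟨hbelow, himg⟩
      · exact ⟨1, one_mem _, by rw [one_smul, Nat.eq_of_beq_eq_true hk]⟩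
      · obtain ⟨p', g', d', hn', hlt⟩ := OTree.exists_node_of_find hbelow
        obtain ⟨hgp, σ, hσ, he⟩ := ih d' (Nat.blt_eq.mp hlt) p p' g' hn'
        cases hg : gens[g]? with
        | none => simp [hg] at himg
        | some P =>
          simp only [hg] at himg
          have hP : P ∈ gens := List.mem_of_getElem? hg
          refine ⟨genPerm P * σ, mul_mem (hmem P hP) hσ, ?_⟩
          rw [mul_smul, he, ← C.spec P p (hv P hP) hgp, Nat.eq_of_beq_eq_true himg]
  intro k hk
  obtain ⟨p, g, d, hn⟩ := OTree.mem_keys_iff.1 hk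
  exact key d k p g hn

theorem orb_start (C : Coding α) {gens : List Gen} {x0 : ℕ} {t : OTree}
    (ho : orbOk C.img C.good gens x0 t = true) : x0 ∈ t.keys := by
  simp only [orbOk, Bool.and_eq_true] at ho
  exact OTree.mem_keys_of_mem ho.1

theorem orb_closed (C : Coding α) {gens : List Gen} {x0 : ℕ} {t : OTree}
    (ho : orbOk C.img C.good gens x0 t = true) {k : ℕ} {P : Gen} (hk : k ∈ t.keys) (hP : P ∈ gens) :
    C.good k = true ∧ C.img P k ∈ t.keys := by
  simp only [orbOk, Bool.and_eq_true] at ho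
  obtain ⟨p, g, d, hn⟩ := OTree.mem_keys_iff.1 hk
  have hf := OTree.of_allNodes ho.2 hn
  simp only [Bool.and_eq_true, List.all_eq_true] at hf
  exact ⟨hf.1.1, OTree.mem_keys_of_mem (hf.1.2 P hP)⟩

/-- The orbit under a certified group. -/
theorem orbit_iff (C : Coding α) {c : List Lvl} {gens : List Gen} (hG : GensFor c gens) {x0 : ℕ}
    {t : OTree} (ho : orbOk C.img C.good gens x0 t = true) (y : α) :
    (∃ σ ∈ gpGrp c, σ • C.dec x0 = y) ↔ ∃ k ∈ t.keys, C.dec k = y := by
  refine ⟨?_, fun ⟨k, hk, he⟩ => ?_⟩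
  · rintro ⟨σ, hσ, rfl⟩
    obtain ⟨τ, hτ, rfl⟩ := mem_gpGrp.1 hσ
    have hτ' := hG.le hτ
    have hfin : τ ∈ Submonoid.closure (toPerm 24 '' {b | b ∈ gens.map Prod.fst}) := by
      rw [← Subgroup.closure_toSubmonoid_of_finite]
      exact hτ'
    clear hσ hτ hτ'
    induction hfin using Submonoid.closure_induction_left with
    | one => exact ⟨x0, orb_start C ho, by rw [map_one, one_smul]⟩
    | mul_left a ha b _ ih =>
      obtain ⟨_, hb, rfl⟩ := ha
      obtain ⟨g, hg, rfl⟩ := List.mem_map.1 hb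
      obtain ⟨k, hk, he⟩ := ih
      obtain ⟨hgood, hin⟩ := orb_closed C ho hk hg
      exact ⟨_, hin, by rw [map_mul, mul_smul, ← he, C.spec g k (hG.valid g hg) hgood]; rfl⟩
  · rw [← he]
    exact (orb_reach C ho hG.valid (fun g hg => hG.genPerm_mem hg) k hk).2

theorem good_keys (C : Coding α) {c : List Lvl} {gens : List Gen} (hG : GensFor c gens) {x0 : ℕ}
    {t : OTree} (ho : orbOk C.img C.good gens x0 t = true) {k : ℕ} (hk : k ∈ t.keys) :
    C.good k = true :=
  (orb_reach C ho hG.valid (fun g hg => hG.genPerm_mem hg) k hk).1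

/-- Members of the orbit are related by the group. -/
theorem exists_smul_eq (C : Coding α) {c : List Lvl} {gens : List Gen} (hG : GensFor c gens) {x0 : ℕ}
    {t : OTree} (ho : orbOk C.img C.good gens x0 t = true) {a b : ℕ} (ha : t.mem a = true)
    (hb : t.mem b = true) : ∃ σ ∈ gpGrp c, σ • C.dec a = C.dec b := by
  obtain ⟨σ, hσ, h1⟩ := (orbit_iff C hG ho _).2 ⟨a, OTree.mem_keys_of_mem ha, rfl⟩
  obtain ⟨τ, hτ, h2⟩ := (orbit_iff C hG ho _).2 ⟨b, OTree.mem_keys_of_mem hb, rfl⟩
  exact ⟨τ * σ⁻¹, mul_mem hτ (inv_mem hσ), by rw [mul_smul, ← h1, inv_smul_smul, h2]⟩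

/-- The size of the orbit. -/
theorem orbit_ncard (C : Coding α) {c : List Lvl} {gens : List Gen} (hG : GensFor c gens) {x0 : ℕ}
    {t : OTree} (ho : orbOk C.img C.good gens x0 t = true) (hi : incr t.keys = true) :
    {y : α | ∃ σ ∈ gpGrp c, σ • C.dec x0 = y}.ncard = t.keys.length := by
  have h : {y : α | ∃ σ ∈ gpGrp c, σ • C.dec x0 = y} = C.dec '' {k | k ∈ t.keys} := by
    ext y
    exact orbit_iff C hG ho y
  rw [h, Set.InjOn.ncard_image, ← List.coe_toFinset, Set.ncard_coe_finset,
    List.toFinset_card_of_nodup (nodup_of_incr hi)]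
  intro a ha b hb e
  exact C.inj a b (good_keys C hG ho ha) (good_keys C hG ho hb) e

theorem ncard_orbit_subgroup (C : Coding α) {c : List Lvl} {gens : List Gen} (hG : GensFor c gens) {x0 : ℕ}
    {t : OTree} (ho : orbOk C.img C.good gens x0 t = true) (hi : incr t.keys = true) :
    (MulAction.orbit (gpGrp c) (C.dec x0)).ncard = t.keys.length := by
  rw [← orbit_ncard C hG ho hi]
  congr 1
  ext y
  exact ⟨fun ⟨σ, h⟩ => ⟨σ.1, σ.2, h⟩, fun ⟨σ, hσ, h⟩ => ⟨⟨σ, hσ⟩, h⟩⟩

/-- The generators `gens'` of `c'` fix the code `x0` and lie in the group of `c`. -/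
def subOk (img : Gen → ℕ → ℕ) (c : List Lvl) (gens' : List Gen) (x0 : ℕ) (wit : List (List ℕ)) :
    Bool :=
  Nat.beq gens'.length wit.length &&
    (gens'.zip wit).all fun gw => memOk 24 c gw.1.1 gw.2 && Nat.beq (img gw.1 x0) x0

theorem subOk_spec {img : Gen → ℕ → ℕ} {c : List Lvl} {gens' : List Gen} {x0 : ℕ}
    {wit : List (List ℕ)} (hc : chk 24 c = true) (hs : subOk img c gens' x0 wit = true) {g : Gen}
    (hg : g ∈ gens') : genPerm g ∈ gpGrp c ∧ img g x0 = x0 := by
  simp only [subOk, Bool.and_eq_true, List.all_eq_true] at hs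
  obtain ⟨i, hi, rfl⟩ := List.getElem_of_mem hg
  have hlen := Nat.eq_of_beq_eq_true hs.1
  have hz := hs.2 ((gens'.zip wit)[i]'(by simp [← hlen, hi])) (List.getElem_mem _)
  rw [List.getElem_zip] at hz
  exact ⟨Subgroup.mem_map_of_mem _ (mem_grp_of_memOk hc hz.1).2, Nat.eq_of_beq_eq_true hz.2⟩

theorem gpGrp_le_of_gensFor {c : List Lvl} {gens : List Gen} (hG : GensFor c gens)
    {K : Subgroup (Perm GolayPt)} (h : ∀ g ∈ gens, genPerm g ∈ K) : gpGrp c ≤ K := by
  rw [gpGrp, Subgroup.map_le_iff_le_comap]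
  refine hG.le.trans ((Subgroup.closure_le _).2 ?_)
  rintro _ ⟨_, hb, rfl⟩
  obtain ⟨g, hg, rfl⟩ := List.mem_map.1 hb
  exact h g hg

/-- A group whose orbit and stabiliser are certified. -/
structure StabCert (C : Coding α) (c c' : List Lvl) (gens gens' : List Gen) (x0 : ℕ) (t : OTree) :
    Prop where
  chk_c : chk 24 c = true
  chk_c' : chk 24 c' = true
  gensFor : GensFor c gens
  gensFor' : GensFor c' gens'
  orb : orbOk C.img C.good gens x0 t = true
  keys_incr : incr t.keys = true
  sub : ∃ wit, subOk C.img c gens' x0 wit = true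
  order : (certOrder c' * t.keys.length == certOrder c) = true

/-- **The stabiliser is the certified subgroup.** -/
theorem StabCert.stab_iff {C : Coding α} {c c' : List Lvl} {gens gens' : List Gen} {x0 : ℕ}
    {t : OTree} (S : StabCert C c c' gens gens' x0 t) (σ : Perm GolayPt) :
    σ ∈ gpGrp c' ↔ σ ∈ gpGrp c ∧ σ • C.dec x0 = C.dec x0 := by
  obtain ⟨wit, hs⟩ := S.sub
  have hle : gpGrp c' ≤ gpGrp c ⊓ MulAction.stabilizer (Perm GolayPt) (C.dec x0) := by
    refine gpGrp_le_of_gensFor S.gensFor' fun g hg => ?_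
    obtain ⟨h1, h2⟩ := subOk_spec S.chk_c hs hg
    refine ⟨h1, ?_⟩
    show genPerm g • C.dec x0 = C.dec x0
    rw [← C.spec g x0 (S.gensFor'.valid g hg) (good_keys C S.gensFor S.orb (orb_start C S.orb)), h2]
  have hstab : (gpGrp c ⊓ MulAction.stabilizer (Perm GolayPt) (C.dec x0)).subgroupOf (gpGrp c) =
      MulAction.stabilizer (gpGrp c) (C.dec x0) := by
    ext g
    simp [Subgroup.mem_subgroupOf, Subgroup.smul_def]
  have h1 := Subgroup.card_mul_index (MulAction.stabilizer (gpGrp c) (C.dec x0))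
  rw [MulAction.index_stabilizer, ncard_orbit_subgroup C S.gensFor S.orb S.keys_incr, ← hstab,
    Nat.card_congr (Subgroup.subgroupOfEquivOfLe inf_le_left).toEquiv, card_gpGrp S.chk_c,
    ← beq_iff_eq.1 S.order] at h1
  have heq : gpGrp c' = gpGrp c ⊓ MulAction.stabilizer (Perm GolayPt) (C.dec x0) := by
    refine Subgroup.eq_of_le_of_card_ge hle ?_
    rw [card_gpGrp S.chk_c']
    have hpos : 0 < t.keys.length := List.length_pos_of_mem (orb_start C S.orb)
    exact (Nat.eq_of_mul_eq_mul_right hpos h1).le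
  rw [heq]
  exact Iff.rfl

/-- Move an element of the orbit to the base element. -/
theorem StabCert.exists_to_base {C : Coding α} {c c' : List Lvl} {gens gens' : List Gen} {x0 : ℕ}
    {t : OTree} (S : StabCert C c c' gens gens' x0 t) {k : ℕ} (hk : k ∈ t.keys) :
    ∃ σ ∈ gpGrp c, σ • C.dec k = C.dec x0 := by
  obtain ⟨σ, hσ, he⟩ := (orbit_iff C S.gensFor S.orb _).2 ⟨k, hk, rfl⟩
  exact ⟨σ⁻¹, inv_mem hσ, by rw [← he, inv_smul_smul]⟩

/-- Data for one suborbit in a maximality proof. -/
structure SubData where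
  /-- the suborbit -/
  sub : OTree
  /-- its base element -/
  rep : ℕ
  /-- an element carrying the base point to `rep` -/
  mover : Gen
  /-- its membership witness -/
  wit : List ℕ
  /-- the orbit of the base point under the stabiliser and the mover -/
  full : OTree

/-- The checks on one suborbit. -/
noncomputable def SubData.ok (C : Coding α) (c : List Lvl) (gens' : List Gen) (x0 : ℕ) (t : OTree)
    (e : SubData) : Bool :=
  orbOk C.img C.good gens' e.rep e.sub && memOk 24 c e.mover.1 e.wit && tabOk e.mover &&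
    Nat.beq (C.img e.mover x0) e.rep && orbOk C.img C.good (e.mover :: gens') x0 e.full &&
    t.allNodes fun k _ _ _ => e.full.mem k

/-- **Maximality from suborbits.** -/
theorem StabCert.eq_top_of_suborbits {C : Coding α} {c c' : List Lvl} {gens gens' : List Gen}
    {x0 : ℕ} {t : OTree} (S : StabCert C c c' gens gens' x0 t) (subs : List SubData)
    (hsub : ∀ e ∈ subs, e.ok C c gens' x0 t = true)
    (hcov : t.allNodes (fun k _ _ _ => Nat.beq k x0 || subs.any fun e => e.sub.mem k) = true)
    (K : Subgroup (Perm GolayPt)) (hlt : gpGrp c' < K) (hle : K ≤ gpGrp c) : K = gpGrp c := by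
  obtain ⟨σ, hσK, hσ⟩ := SetLike.exists_of_lt hlt
  have hst := S.stab_iff
  obtain ⟨k, hk, hke⟩ := (orbit_iff C S.gensFor S.orb _).1 ⟨σ, hle hσK, rfl⟩
  have hk0 : k ≠ x0 := fun e => hσ ((hst σ).2 ⟨hle hσK, by rw [← hke, e]⟩)
  obtain ⟨p, g, d, hn⟩ := OTree.mem_keys_iff.1 hk
  have hc0 := OTree.of_allNodes hcov hn
  simp only [Bool.or_eq_true, List.any_eq_true] at hc0
  rcases hc0 with h | ⟨e, he, hmem⟩
  · exact absurd (Nat.eq_of_beq_eq_true h) hk0
  have hok := hsub e he
  simp only [SubData.ok, Bool.and_eq_true] at hok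
  obtain ⟨⟨⟨⟨⟨h1, h2⟩, htab⟩, h3⟩, h4⟩, h5⟩ := hok
  obtain ⟨hvu, huc⟩ := mem_grp_of_memOk S.chk_c h2
  have hux : genPerm e.mover • C.dec x0 = C.dec e.rep := by
    rw [← C.spec _ x0 ⟨hvu, htab⟩ (good_keys C S.gensFor S.orb (orb_start C S.orb)),
      Nat.eq_of_beq_eq_true h3]
  obtain ⟨τ, hτ, hτe⟩ := (orbit_iff C S.gensFor' h1 _).2 ⟨k, OTree.mem_keys_of_mem hmem, rfl⟩
  have huK : genPerm e.mover ∈ K := by
    have hm : σ⁻¹ * τ * genPerm e.mover ∈ gpGrp c' := (hst _).2
      ⟨mul_mem (mul_mem (inv_mem (hle hσK)) ((hst τ).1 hτ).1) (Subgroup.mem_map_of_mem _ huc),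
        by rw [mul_smul, mul_smul, hux, hτe, hke, inv_smul_smul]⟩
    have : τ⁻¹ * σ * (σ⁻¹ * τ * genPerm e.mover) ∈ K :=
      mul_mem (mul_mem (inv_mem (hlt.le hτ)) hσK) (hlt.le hm)
    simpa [mul_assoc] using this
  refine le_antisymm hle fun ρ hρ => ?_
  obtain ⟨k', hk', hk'e⟩ := (orbit_iff C S.gensFor S.orb _).1 ⟨ρ, hρ, rfl⟩
  obtain ⟨p', g', d', hn'⟩ := OTree.mem_keys_iff.1 hk'
  have hreach := orb_reach C h4 (fun P hP => by
      rcases List.mem_cons.1 hP with rfl | hP
      · exact ⟨hvu, htab⟩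
      · exact S.gensFor'.valid P hP)
    (H := K) (fun P hP => by
      rcases List.mem_cons.1 hP with rfl | hP
      · exact huK
      · exact hlt.le (S.gensFor'.genPerm_mem hP))
    k' (OTree.mem_keys_of_mem (OTree.of_allNodes h5 hn'))
  obtain ⟨κ, hκ, hκe⟩ := hreach.2
  have hm : κ⁻¹ * ρ ∈ gpGrp c' := (hst _).2
    ⟨mul_mem (inv_mem (hle hκ)) hρ, by rw [mul_smul, ← hk'e, ← hκe, inv_smul_smul]⟩
  have := mul_mem hκ (hlt.le hm)
  rwa [mul_inv_cancel_left] at this

/-! ### Codings -/

theorem app_lt_of_valid {P : ℕ} (h : Valid 24 P) (i : Fin 24) : app P i < 24 := by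
  obtain ⟨σ, hσ⟩ := h
  rw [← hσ i]
  exact (σ i).isLt

theorem testBit_foldl_img (P m : ℕ) : ∀ (l : List ℕ) (r j : ℕ),
    (l.foldl (fun r i => bif m.testBit i then r ||| (1 <<< app P i) else r) r).testBit j =
      (r.testBit j || l.any fun i => m.testBit i && decide (app P i = j))
  | [], r, j => by simp
  | i :: l, r, j => by
    rw [List.foldl_cons, testBit_foldl_img P m l, List.any_cons]
    cases hb : m.testBit i with
    | false => simp
    | true => rw [cond_true, testBit_lor_one_shiftLeft, Bool.or_assoc, Bool.true_and]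

theorem testBit_imgMask (P m j : ℕ) :
    (imgMask P m).testBit j = (List.range 24).any fun i => m.testBit i && decide (app P i = j) := by
  rw [imgMask, testBit_foldl_img]
  simp

theorem imgMask_lt {P : ℕ} (h : Valid 24 P) (m : ℕ) : imgMask P m < 2 ^ 24 := by
  refine Nat.lt_pow_two_of_testBit _ fun j hj => ?_
  rw [testBit_imgMask, List.any_eq_false]
  intro i hi
  have := app_lt_of_valid h ⟨i, List.mem_range.1 hi⟩
  simp only at this
  simp [show app P i ≠ j by omega]

theorem setOf24_imgMask {P : ℕ} (h : Valid 24 P) (m : ℕ) :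
    setOf24 (imgMask P m) = toGP (toPerm 24 P) • setOf24 m := by
  ext p
  rw [mem_setOf24, mem_smul_finset_iff, mem_setOf24, testBit_imgMask]
  obtain ⟨q, rfl⟩ := (toGP (toPerm 24 P)).surjective p
  rw [Equiv.symm_apply_apply, enc_toGP, List.any_eq_true]
  constructor
  · rintro ⟨i, hi, hh⟩
    rw [Bool.and_eq_true, decide_eq_true_eq] at hh
    have h1 : (⟨i, List.mem_range.1 hi⟩ : Fin 24) = enc q := by
      apply (toPerm 24 P).injective
      apply Fin.ext
      rw [h.repr]
      exact hh.2
    rw [← h1]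
    exact hh.1
  · intro hq
    refine ⟨enc q, List.mem_range.2 (enc q).isLt, ?_⟩
    rw [hq, Bool.true_and, decide_eq_true_eq, h.repr]

theorem testBit_piece (m k i : ℕ) :
    ((m >>> k &&& 15) <<< k).testBit i = (decide (k ≤ i ∧ i < k + 4) && m.testBit i) := by
  rw [show (15 : ℕ) = 2 ^ 4 - 1 from rfl, Nat.testBit_shiftLeft, Nat.testBit_and,
    Nat.testBit_shiftRight, Nat.testBit_two_pow_sub_one]
  by_cases h : k ≤ i
  · rw [show k + (i - k) = i by omega]
    by_cases h2 : i < k + 4
    · simp [h, h2, show i - k < 4 by omega]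
    · simp [h, h2, show ¬ i - k < 4 by omega]
  · simp [h]

theorem imgT_eq {g : Gen} (hg : tabOk g = true) (m : ℕ) : imgT g.2 m = imgMask g.1 m := by
  simp only [tabOk, List.all_eq_true, List.mem_range] at hg
  have hl : ∀ j < 6, lk g.2 (16 * j + Nat.land (Nat.shiftRight m (4 * j)) 15) =
      imgMask g.1 ((Nat.land (Nat.shiftRight m (4 * j)) 15) <<< (4 * j)) := fun j hj =>
    Nat.eq_of_beq_eq_true (hg j hj _ (Nat.and_lt_two_pow (n := 4) _ (by norm_num)))
  refine Nat.eq_of_testBit_eq fun b => ?_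
  have h0 := hl 0 (by norm_num); have h1 := hl 1 (by norm_num); have h2 := hl 2 (by norm_num)
  have h3 := hl 3 (by norm_num); have h4 := hl 4 (by norm_num); have h5 := hl 5 (by norm_num)
  have e0 : lk g.2 (Nat.land m 15) = imgMask g.1 ((Nat.land (Nat.shiftRight m (4 * 0)) 15) <<< (4 * 0)) := by
    rw [← h0]
    simp
  norm_num at h1 h2 h3 h4 h5
  norm_num at e0
  show (lk g.2 (m &&& 15) ||| lk g.2 (16 + (m >>> 4 &&& 15)) ||| lk g.2 (32 + (m >>> 8 &&& 15)) |||
    lk g.2 (48 + (m >>> 12 &&& 15)) ||| lk g.2 (64 + (m >>> 16 &&& 15)) |||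
    lk g.2 (80 + (m >>> 20 &&& 15))).testBit b = _
  rw [e0, h1, h2, h3, h4, h5]
  rw [show m &&& 15 = (m >>> 0 &&& 15) <<< 0 by simp]
  simp only [Nat.testBit_or, testBit_imgMask, testBit_piece]
  rw [Bool.eq_iff_iff]
  simp only [List.any_eq_true, Bool.and_eq_true, Bool.or_eq_true, decide_eq_true_eq, List.mem_range]
  constructor
  · rintro (((((⟨i, hi, hb, he⟩ | ⟨i, hi, hb, he⟩) | ⟨i, hi, hb, he⟩) | ⟨i, hi, hb, he⟩) |
      ⟨i, hi, hb, he⟩) | ⟨i, hi, hb, he⟩)
    all_goals exact ⟨i, hi, hb.2, he⟩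
  · rintro ⟨i, hi, hb, he⟩
    rcases (by omega : i < 4 ∨ (4 ≤ i ∧ i < 8) ∨ (8 ≤ i ∧ i < 12) ∨ (12 ≤ i ∧ i < 16) ∨
      (16 ≤ i ∧ i < 20) ∨ (20 ≤ i ∧ i < 24)) with h | h | h | h | h | h
    · exact Or.inl (Or.inl (Or.inl (Or.inl (Or.inl ⟨i, hi, ⟨by omega, hb⟩, he⟩))))
    · exact Or.inl (Or.inl (Or.inl (Or.inl (Or.inr ⟨i, hi, ⟨by omega, hb⟩, he⟩))))
    · exact Or.inl (Or.inl (Or.inl (Or.inr ⟨i, hi, ⟨by omega, hb⟩, he⟩)))
    · exact Or.inl (Or.inl (Or.inr ⟨i, hi, ⟨by omega, hb⟩, he⟩))
    · exact Or.inl (Or.inr ⟨i, hi, ⟨by omega, hb⟩, he⟩)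
    · exact Or.inr ⟨i, hi, ⟨by omega, hb⟩, he⟩

/-- Sets of points coded by masks. -/
def maskCoding : Coding (Finset GolayPt) where
  dec := setOf24
  img := fun g m => imgT g.2 m
  good := fun k => Nat.blt k 16777216
  spec := fun g k h _ => by
    show setOf24 (imgT g.2 k) = _
    rw [imgT_eq h.2]
    exact setOf24_imgMask h.1 k
  inj := fun _ _ ha hb e => setOf24_injOn (Nat.blt_eq.mp ha) (Nat.blt_eq.mp hb) e

/-- Points coded by their numbers. -/
def pointCoding : Coding GolayPt where
  dec := fun k => enc.symm (Fin.ofNat 24 k)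
  img := fun g k => app g.1 k
  good := fun k => Nat.blt k 24
  spec := fun g k hg hk => by
    have h := hg.1
    show enc.symm (Fin.ofNat 24 (app g.1 k)) = toGP (toPerm 24 g.1) (enc.symm (Fin.ofNat 24 k))
    rw [toGP_apply, Equiv.apply_symm_apply]
    congr 1
    apply Fin.ext
    have hk' : k < 24 := Nat.blt_eq.mp hk
    rw [h.repr]
    simp [Fin.ofNat, Nat.mod_eq_of_lt hk', Nat.mod_eq_of_lt (app_lt_of_valid h ⟨k, hk'⟩)]
  inj := fun a b ha hb e => by
    have := congrArg Fin.val (enc.symm.injective e)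
    simpa [Fin.ofNat, Nat.mod_eq_of_lt (Nat.blt_eq.mp ha), Nat.mod_eq_of_lt (Nat.blt_eq.mp hb)] using this

/-- Insertion into an increasing list. -/
def ins (a : ℕ) : List ℕ → List ℕ
  | [] => [a]
  | b :: l => bif Nat.ble a b then a :: b :: l else b :: ins a l

/-- Insertion sort. -/
def isort : List ℕ → List ℕ
  | [] => []
  | a :: l => ins a (isort l)

theorem mem_ins {a x : ℕ} : ∀ {l : List ℕ}, x ∈ ins a l ↔ x = a ∨ x ∈ l
  | [] => by simp [ins]
  | b :: l => by
    unfold ins
    cases Nat.ble a b <;> simp [mem_ins (l := l), or_left_comm]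

theorem length_ins {a : ℕ} : ∀ {l : List ℕ}, (ins a l).length = l.length + 1
  | [] => rfl
  | b :: l => by
    unfold ins
    cases Nat.ble a b <;> simp [length_ins (l := l)]

theorem mem_isort {x : ℕ} : ∀ {l : List ℕ}, x ∈ isort l ↔ x ∈ l
  | [] => Iff.rfl
  | a :: l => by simp [isort, mem_ins, mem_isort (l := l)]

theorem length_isort : ∀ {l : List ℕ}, (isort l).length = l.length
  | [] => rfl
  | a :: l => by simp [isort, length_ins, length_isort (l := l)]

/-- Several masks in one number, 24 bits each. -/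
def pack : List ℕ → ℕ
  | [] => 0
  | m :: l => m + 16777216 * pack l

/-- The first `n` masks packed in a number. -/
def unpack : ℕ → ℕ → List ℕ
  | 0, _ => []
  | n + 1, k => k % 16777216 :: unpack n (k / 16777216)

theorem unpack_pack : ∀ {l : List ℕ}, (∀ m ∈ l, m < 16777216) → unpack l.length (pack l) = l
  | [], _ => rfl
  | m :: l, h => by
    have hm := h m List.mem_cons_self
    simp only [List.length_cons, unpack, pack, List.cons.injEq]
    refine ⟨by omega, ?_⟩
    rw [show (m + 16777216 * pack l) / 16777216 = pack l by omega]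
    exact unpack_pack fun x hx => h x (List.mem_cons_of_mem _ hx)

theorem length_unpack : ∀ n k, (unpack n k).length = n
  | 0, _ => rfl
  | n + 1, k => by simp [unpack, length_unpack n]

theorem lt_of_mem_unpack : ∀ {n k m : ℕ}, m ∈ unpack n k → m < 16777216
  | 0, _, _, h => by simp [unpack] at h
  | n + 1, k, m, h => by
    rcases List.mem_cons.1 h with rfl | h
    · exact Nat.mod_lt _ (by norm_num)
    · exact lt_of_mem_unpack h

theorem pairwise_of_incr : ∀ {l : List ℕ}, incr l = true → l.Pairwise (· < ·)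
  | [], _ => List.Pairwise.nil
  | [a], _ => List.pairwise_singleton _ a
  | a :: b :: l, h => by
    simp only [incr, Bool.and_eq_true, decide_eq_true_eq] at h
    have ih := pairwise_of_incr h.2
    refine List.pairwise_cons.2 ⟨fun x hx => ?_, ih⟩
    rcases List.mem_cons.1 hx with rfl | hx
    · exact h.1
    · exact h.1.trans ((List.pairwise_cons.1 ih).1 x hx)

/-- Families of `n` sets coded by packed increasing lists of masks. -/
def familyCoding (n : ℕ) : Coding (Finset (Finset GolayPt)) where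
  dec := fun k => ((unpack n k).map setOf24).toFinset
  img := fun g k => pack (isort ((unpack n k).map (imgT g.2)))
  good := fun k => Nat.beq (pack (unpack n k)) k && incr (unpack n k)
  spec := fun g k hg _ => by
    have h := hg.1
    rw [show imgT g.2 = imgMask g.1 from funext (imgT_eq hg.2)]
    generalize hP : g.1 = P at h ⊢
    have hgp : genPerm g = toGP (toPerm 24 P) := by rw [genPerm, hP]
    rw [hgp]
    have hlt : ∀ m ∈ isort ((unpack n k).map (imgMask P)), m < 16777216 := fun m hm => by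
      obtain ⟨x, -, rfl⟩ := List.mem_map.1 (mem_isort.1 hm)
      exact imgMask_lt h x
    have hl : (isort ((unpack n k).map (imgMask P))).length = n := by
      rw [length_isort, List.length_map, length_unpack]
    have hu : unpack n (pack (isort ((unpack n k).map (imgMask P)))) =
        isort ((unpack n k).map (imgMask P)) := by
      have := unpack_pack hlt
      rwa [hl] at this
    ext s
    simp only [hu, List.mem_toFinset, List.mem_map, mem_isort, Finset.mem_smul_finset]
    constructor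
    · rintro ⟨_, ⟨x, hx, rfl⟩, rfl⟩
      exact ⟨_, ⟨x, hx, rfl⟩, (setOf24_imgMask h x).symm⟩
    · rintro ⟨_, ⟨x, hx, rfl⟩, rfl⟩
      exact ⟨_, ⟨x, hx, rfl⟩, setOf24_imgMask h x⟩
  inj := fun a b ha hb e => by
    rw [Bool.and_eq_true] at ha hb
    have hl : unpack n a = unpack n b := by
      have hsub : ∀ {a b : ℕ}, ((unpack n a).map setOf24).toFinset = ((unpack n b).map setOf24).toFinset →
          ∀ x ∈ unpack n a, x ∈ unpack n b := by
        intro a b e x hx
        have : setOf24 x ∈ ((unpack n b).map setOf24).toFinset := by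
          rw [← e, List.mem_toFinset]
          exact List.mem_map_of_mem hx
        obtain ⟨y, hy, hye⟩ := List.mem_map.1 (List.mem_toFinset.1 this)
        rwa [← setOf24_injOn (lt_of_mem_unpack hy) (lt_of_mem_unpack hx) hye]
      refine List.Perm.eq_of_pairwise (fun x y _ _ h1 h2 => absurd (h1.trans h2) (lt_irrefl x))
        (pairwise_of_incr ha.2) (pairwise_of_incr hb.2) ?_
      exact (List.perm_ext_iff_of_nodup (nodup_of_incr ha.2) (nodup_of_incr hb.2)).2
        fun x => ⟨hsub e x, hsub e.symm x⟩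
    rw [← Nat.eq_of_beq_eq_true ha.1, hl, Nat.eq_of_beq_eq_true hb.1]

end Cfsg.Agent.Lib.GolayOrbit
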