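import Cfsg.Agent.Lib.Golay.PairData
import Cfsg.Agent.Lib.Golay.Partition

/-!
# Suborbits of a pair stabiliser
-/

set_option autoImplicit false

namespace Cfsg.Agent.Lib.GolayOrbit

open Cfsg Cfsg.Agent.Lib.Compute
open scoped Pointwise

/-- part of `pairOrb1` -/
def pairOrb1P0 : OTree :=
  .node (.node (.node (.node (.node .leaf 5 0 0 0 .leaf) 6 130 0 3 .leaf) 9 1048577 0 5 (.node (.node .leaf 10 2097153 1 4 .leaf) 17 524289 0 4 .leaf)) 18 524290 0 3 (.node (.node (.node .leaf 33 16386 1 2 .leaf) 34 16385 1 3 .leaf) 65 5 0 1 (.node (.node .leaf 66 6 0 4 .leaf) 129 66 1 5 .leaf))) 130 65 1 2 (.node (.node (.node (.node .leaf 257 524290 1 3 .leaf) 258 524289 1 4 .leaf) 513 65537 0 6 (.node (.node .leaf 514 1048577 1 5 .leaf) 1025 18 1 4 .leaf)) 1026 17 1 5 (.node (.node (.node .leaf 2049 33 0 3 .leaf) 2050 34 0 4 .leaf) 4097 34 1 4 (.node .leaf 4098 33 1 3 .leaf)))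

/-- part of `pairOrb1` -/
def pairOrb1P1 : OTree :=
  .node (.node (.node (.node (.node .leaf 8194 514 0 6 .leaf) 16385 65 0 2 .leaf) 16386 5 1 1 (.node (.node .leaf 32769 262146 1 5 .leaf) 32770 262145 1 6 .leaf)) 65537 2050 1 5 (.node (.node (.node .leaf 65538 2049 1 4 .leaf) 131073 9 0 6 .leaf) 131074 10 0 5 (.node .leaf 262145 17 0 5 .leaf))) 262146 18 0 4 (.node (.node (.node (.node .leaf 524289 16385 0 3 .leaf) 524290 16386 0 2 .leaf) 1048577 2097153 0 4 (.node (.node .leaf 1048578 32769 1 6 .leaf) 2097153 130 1 3 .leaf)) 2097154 4194306 0 6 (.node (.node (.node .leaf 4194305 2049 0 4 .leaf) 4194306 2050 0 5 .leaf) 8388609 4098 1 4 (.node .leaf 8388610 4097 1 5 .leaf)))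

/-- an orbit of size 44 -/
def pairOrb1 : OTree :=
  .node pairOrb1P0 8193 513 0 7 pairOrb1P1

theorem pairOrb1_ok : orbOk maskCoding.img maskCoding.good pairCertGens 5 pairOrb1 = true := by decide +kernel

theorem pairOrb1_incr : incr pairOrb1.keys = true := by decide +kernel

theorem pairOrb1_length : pairOrb1.keys.length = 44 := by decide +kernel

/-- part of `pairOrb2` -/
def pairOrb2P0 : OTree :=
  .node (.node (.node (.node (.node (.node .leaf 12 0 0 0 .leaf) 20 524416 0 8 (.node .leaf 24 2097160 1 8 .leaf)) 36 131200 0 7 (.node (.node .leaf 40 1179648 0 9 .leaf) 48 16392 1 5 (.node .leaf 68 65792 1 5 .leaf))) 72 2097408 1 8 (.node (.node (.node .leaf 80 264 1 5 .leaf) 96 16640 1 8 (.node .leaf 132 65600 1 9 .leaf)) 136 1310720 0 9 (.node (.node .leaf 144 786432 0 3 .leaf) 160 16448 1 7 .leaf))) 192 262148 0 5 (.node (.node (.node (.node .leaf 260 589824 1 9 .leaf) 264 2621440 1 4 (.node .leaf 272 8912896 0 7 .leaf)) 288 8519680 0 7 (.node (.node .leaf 320 8388612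 0 9 .leaf) 384 524352 1 8 .leaf)) 516 65664 0 5 (.node (.node (.node .leaf 520 1114112 0 9 .leaf) 528 589824 0 9 (.node .leaf 544 1064960 1 7 .leaf)) 576 65540 0 6 (.node (.node .leaf 640 1048640 1 5 .leaf) 768 1572864 1 9 .leaf)))) 1028 1152 0 7 (.node (.node (.node (.node (.node .leaf 1032 1049600 0 6 .leaf) 1040 525312 0 6 (.node .leaf 1056 16400 1 2 .leaf)) 1088 1028 0 8 (.node (.node .leaf 1152 80 1 6 .leaf) 1280 524304 1 8 (.node .leaf 1536 1048592 1 5 .leaf))) 2052 160 0 8 (.node (.node (.node .leaf 2056 1048608 0 7 .leaf) 2064 524320 0 8 (.node .leaf 2080 8404992 1 9 .leaf)) 2112 8388864 1 6 (.node (.node .leaf 2176 8388672 1 7 .leaf) 2304 8912896 1 7 .leaf))) 2560 65568 0 7 (.node (.node (.node (.node .leaf 3072 1056 0 3 .leaf) 4100 65568 1 7 (.node .leaf 4104 2097184 1 8 .leaf)) 4112 524544 0 10 (.node (.node .leaf 4128 16416 1 3 .leaf) 4160 288 1 8 .leaf)) 4224 262400 0 7 (.node (.node (.node .leaf 4352 8388864 0 6 .leaf) 4608 65792 0 5 (.node .leaf 5120 48 1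 6 .leaf)) 6144 288 0 8 (.node (.node .leaf 8196 640 0 6 .leaf) 8200 2105344 1 7 .leaf))))

/-- part of `pairOrb2` -/
def pairOrb2P1 : OTree :=
  .node (.node (.node (.node (.node (.node .leaf 8224 24576 1 8 .leaf) 8256 516 0 6 (.node .leaf 8320 262656 0 7 .leaf)) 8448 8389120 0 9 (.node (.node .leaf 8704 66048 0 7 .leaf) 9216 1536 0 6 (.node .leaf 10240 544 0 8 .leaf))) 12288 8224 1 9 (.node (.node (.node .leaf 16388 65540 1 6 .leaf) 16392 2097156 1 4 (.node .leaf 16400 12 1 1 .leaf)) 16416 131136 0 2 (.node (.node .leaf 16448 68 0 6 .leaf) 16512 68 1 6 .leaf))) 16640 8388672 0 7 (.node (.node (.node (.node .leaf 16896 1048580 1 8 .leaf) 17408 20 1 9 (.node .leaf 18432 96 0 9 .leaf)) 20480 36 1 8 (.node (.node .leaf 24576 576 0 7 .leaf) 32772 327680 1 5 .leaf)) 32776 2359296 1 6 (.node (.node (.node .leaf 32784 262152 1 6 .leaf) 32800 278528 1 7 (.node .leaf 32832 262400 1 7 .leaf)) 32896 270336 0 8 (.node (.node .leaf 33024 786432 1 3 .leaf) 33280 73728 0 7 .leaf)))) 33792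 9216 0 7 (.node (.node (.node (.node (.node .leaf 34816 8650752 1 8 .leaf) 36864 8448 0 10 (.node .leaf 40960 270336 1 8 .leaf)) 49152 262148 1 5 (.node (.node .leaf 65540 67584 1 5 .leaf) 65544 1052672 0 9 (.node .leaf 65552 2056 1 8 .leaf))) 65568 135168 0 6 (.node (.node (.node .leaf 65600 4100 0 8 .leaf) 65664 266240 0 4 (.node .leaf 65792 526336 1 4 .leaf)) 66048 1050624 1 6 (.node (.node .leaf 66560 5120 0 7 .leaf) 67584 4128 0 4 .leaf))) 69632 4352 0 7 (.node (.node (.node (.node .leaf 73728 4608 0 6 .leaf) 81920 4160 0 9 (.node .leaf 98304 264192 1 7 .leaf)) 131076 66048 1 7 (.node (.node .leaf 131080 2097664 1 8 .leaf) 131088 524296 0 8 .leaf)) 131104 131080 0 9 (.node (.node (.node .leaf 131136 12 0 1 .leaf) 131200 262152 0 6 (.node .leaf 131328 8388616 0 9 .leaf)) 131584 1049088 1 9 (.node (.node .leaf 132096 1032 0 7 .leaf) 133120 8389120 1 9 .leaf))))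

/-- part of `pairOrb2` -/
def pairOrb2P2 : OTree :=
  .node (.node (.node (.node (.node (.node .leaf 139264 8704 1 8 .leaf) 147456 516 1 6 (.node .leaf 163840 262656 1 7 .leaf)) 196608 2560 1 8 (.node (.node .leaf 262148 144 0 4 .leaf) 262152 1048592 0 5 (.node .leaf 262160 1032 1 7 .leaf))) 262176 131088 0 9 (.node (.node (.node .leaf 262208 20 0 9 .leaf) 262272 262160 0 8 (.node .leaf 262400 525312 1 6 .leaf)) 262656 1049600 1 6 (.node (.node .leaf 263168 1040 0 7 .leaf) 264192 48 0 6 .leaf))) 266240 1056 1 3 (.node (.node (.node (.node .leaf 270336 9216 1 7 .leaf) 278528 80 0 6 (.node .leaf 294912 263168 1 8 .leaf)) 327680 3072 1 4 (.node (.node .leaf 393216 1536 1 6 .leaf) 524292 16512 0 7 .leaf)) 524296 1064960 0 7 (.node (.node (.node .leaf 524304 4194312 1 7 .leaf) 524320 147456 0 7 (.node .leaf 524352 16388 0 7 .leaf)) 524416 278528 0 7 (.node (.node .leaf 524544 8404992 0 9 .leaf) 524800 5242880 1 9 .leaf)))) 525312 4194320 1 5 (.node (.node (.node (.node (.node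 .leaf 526336 16416 0 3 .leaf) 528384 16640 0 8 (.node .leaf 532480 4202496 1 9 .leaf)) 540672 16448 0 7 (.node (.node .leaf 557056 24576 0 8 .leaf) 589824 4196352 1 8 (.node .leaf 655360 16392 0 5 .leaf))) 786432 16400 0 2 (.node (.node (.node .leaf 1048580 2097280 0 7 .leaf) 1048584 3145728 0 9 (.node .leaf 1048592 2621440 0 4 .leaf)) 1048608 49152 1 6 (.node (.node .leaf 1048640 2097156 0 4 .leaf) 1048704 2359296 0 6 .leaf))) 1048832 10485760 0 9 (.node (.node (.node (.node .leaf 1049088 1081344 1 8 .leaf) 1049600 2098176 0 5 (.node .leaf 1050624 8421376 1 5 .leaf)) 1052672 2097408 0 8 (.node (.node .leaf 1056768 2097664 0 8 .leaf) 1064960 32772 1 6 .leaf)) 1081344 2105344 0 7 (.node (.node (.node .leaf 1114112 2101248 0 8 .leaf) 1179648 33280 1 8 (.node .leaf 1310720 33792 1 8 .leaf)) 1572864 4227072 1 8 (.node (.node .leaf 2097156 4194432 0 3 .leaf) 2097160 2097280 1 7 .leaf))))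

/-- part of `pairOrb2` -/
def pairOrb2P3 : OTree :=
  .node (.node (.node (.node (.node (.node .leaf 2097184 16512 1 7 .leaf) 2097216 384 1 9 (.node .leaf 2097280 192 1 6 .leaf)) 2097408 12582912 0 7 (.node (.node .leaf 2097664 1048704 1 7 .leaf) 2098176 144 1 4 (.node .leaf 2099200 4194336 0 8 .leaf))) 2101248 4194560 0 7 (.node (.node (.node .leaf 2105344 4194816 0 6 .leaf) 2113536 4194368 0 10 (.node .leaf 2129920 4202496 0 9 .leaf)) 2162688 2176 1 8 (.node (.node .leaf 2228224 640 1 6 .leaf) 2359296 4194320 0 5 .leaf))) 2621440 4194432 1 3 (.node (.node (.node (.node .leaf 3145728 6291456 0 8 .leaf) 4194308 2176 0 8 (.node .leaf 4194312 1050624 0 6 .leaf)) 4194320 526336 0 4 (.node (.node .leaf 4194336 147456 1 7 .leaf) 4194368 2052 0 9 .leaf)) 4194432 131136 1 2 (.node (.node (.node .leaf 4194560 8390656 0 6 .leaf) 4194816 67584 0 5 (.node .leaf 4195328 3072 0 4 .leaf)) 4196352 8519680 1 7 (.node (.node .leaf 4198400 2304 0 8 .leaf) 4202496 2560 0 8 .leaf)))) 4210688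 2112 0 7 (.node (.node (.node (.node (.node .leaf 4227072 393216 1 7 .leaf) 4259840 6144 0 9 (.node .leaf 4325376 2056 0 8 .leaf)) 4456448 132096 1 8 (.node (.node .leaf 4718592 4325376 1 9 .leaf) 5242880 163840 1 8 (.node .leaf 6291456 131200 1 7 .leaf))) 8388612 69632 1 8 (.node (.node (.node .leaf 8388616 1081344 0 8 .leaf) 8388624 4104 1 9 (.node .leaf 8388640 163840 0 8 .leaf)) 8388672 32772 0 6 (.node (.node .leaf 8388736 294912 0 9 .leaf) 8388864 8421376 0 5 .leaf))) 8389120 98304 0 8 (.node (.node (.node (.node .leaf 8389632 33792 0 8 .leaf) 8390656 8392704 1 5 (.node .leaf 8392704 4128 1 4 .leaf)) 8396800 33280 0 8 (.node (.node .leaf 8404992 32832 0 8 .leaf) 8421376 266240 1 4 .leaf)) 8454144 6144 1 9 (.node (.node (.node .leaf 8519680 4608 1 6 .leaf) 8650752 5120 1 7 (.node .leaf 8912896 49152 0 6 .leaf)) 9437184 2129920 0 10 (.node (.node .leaf 10485760 4224 1 8 .leaf) 12582912 135168 1 6 .leaf))))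

/-- an orbit of size 231 -/
def pairOrb2 : OTree :=
  .node (.node pairOrb2P0 8208 8200 1 8 pairOrb2P1) 135168 264 0 5 (.node pairOrb2P2 2097168 136 1 10 pairOrb2P3)

theorem pairOrb2_ok : orbOk maskCoding.img maskCoding.good pairCertGens 12 pairOrb2 = true := by decide +kernel

theorem pairOrb2_incr : incr pairOrb2.keys = true := by decide +kernel

theorem pairOrb2_length : pairOrb2.keys.length = 231 := by decide +kernel

/-- part of `pairFull1` -/
def pairFull1P0 : OTree :=
  .node (.node (.node (.node (.node (.node (.node .leaf 3 0 0 0 .leaf) 5 3 0 1 .leaf) 6 130 1 4 (.node .leaf 9 1048577 1 5 .leaf)) 10 2097153 2 5 (.node (.node .leaf 12 10 0 6 .leaf) 17 65 0 3 (.node .leaf 18 524290 1 4 .leaf))) 20 66 0 6 (.node (.node (.node (.node .leaf 24 72 0 6 .leaf) 33 16386 2 3 .leaf) 34 16385 2 4 (.node .leaf 36 1048578 0 6 .leaf)) 40 2113536 2 7 (.node (.node .leaf 48 1048640 0 7 .leaf) 65 5 1 2 (.node .leaf 66 6 1 5 .leaf)))) 68 132 1 6 (.node (.node (.node (.node (.node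 .leaf 72 1048580 1 5 .leaf) 80 524292 1 4 .leaf) 96 16640 2 5 (.node .leaf 129 262145 1 3 .leaf)) 130 65 2 3 (.node (.node .leaf 132 2097154 0 5 .leaf) 136 1310720 1 7 (.node .leaf 144 72 2 6 .leaf))) 160 393216 1 5 (.node (.node (.node .leaf 192 262148 1 6 .leaf) 257 524290 2 4 (.node .leaf 258 8388610 1 5 .leaf)) 260 8194 0 7 (.node (.node .leaf 264 2621440 2 7 .leaf) 272 524296 2 7 (.node .leaf 288 540672 2 8 .leaf))))) 320 8388612 1 6 (.node (.node (.node (.node (.node (.node .leaf 384 8650752 1 7 .leaf) 513 257 0 5 .leaf) 514 1048577 2 5 (.node .leaf 516 258 0 6 .leaf)) 520 3145728 2 7 (.node (.node .leaf 528 320 0 7 .leaf) 544 1064960 2 6 (.node .leaf 576 65540 1 7 .leaf))) 640 1048640 2 7 (.node (.node (.node (.node .leaf 768 1572864 2 7 .leaf) 1025 33 0 4 .leaf) 1026 17 2 4 (.node .leaf 1028 34 0 5 .leaf)) 1032 1049600 1 7 (.node (.node .leaf 1040 96 0 6 .leaf) 1056 132096 1 8 (.node .leaf 1088 1028 1 6 .leaf)))) 1152 80 2 5 (.node (.node (.node (.node (.node .leaf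 1280 8224 0 8 .leaf) 1536 66560 1 8 .leaf) 2049 33 1 4 (.node .leaf 2050 34 1 5 .leaf)) 2052 160 1 6 (.node (.node .leaf 2056 10485760 2 7 .leaf) 2064 4194368 0 6 (.node .leaf 2080 131104 1 7 .leaf))) 2112 4456448 0 6 (.node (.node (.node .leaf 2176 8388672 2 6 .leaf) 2304 8912896 2 8 (.node .leaf 2560 9437184 2 8 .leaf)) 3072 8388624 2 7 (.node (.node .leaf 4097 34 2 5 .leaf) 4098 33 2 4 (.node .leaf 4100 65538 0 6 .leaf)))))

/-- part of `pairFull1` -/
def pairFull1P1 : OTree :=
  .node (.node (.node (.node (.node (.node (.node .leaf 4112 40 2 8 .leaf) 4128 131328 1 7 .leaf) 4160 260 1 8 (.node .leaf 4224 96 2 6 .leaf)) 4352 524320 2 7 (.node (.node .leaf 4608 1048608 2 8 .leaf) 5120 65568 0 8 (.node .leaf 6144 8388640 2 9 .leaf))) 8193 4097 0 6 (.node (.node (.node (.node .leaf 8194 514 1 6 .leaf) 8196 4098 0 5 .leaf) 8200 1049088 1 8 (.node .leaf 8208 524800 1 6 .leaf)) 8224 24576 2 7 (.node (.node .leaf 8256 516 1 7 .leaf) 8320 2101248 0 7 (.node .leaf 8448 532480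 2 7 .leaf)))) 8704 4352 0 8 (.node (.node (.node (.node (.node .leaf 9216 8208 2 7 .leaf) 10240 544 1 7 .leaf) 12288 768 1 8 (.node .leaf 16385 65 1 3 .leaf)) 16386 5 2 2 (.node (.node .leaf 16388 2050 0 6 .leaf) 16392 2097156 2 6 (.node .leaf 16400 12 2 7 .leaf))) 16416 16388 2 7 (.node (.node (.node .leaf 16448 68 1 7 .leaf) 16512 68 2 7 (.node .leaf 16640 524292 2 4 .leaf)) 16896 1048580 2 5 (.node (.node .leaf 17408 1088 1 7 .leaf) 18432 8388612 2 6 (.node .leaf 20480 36 2 7 .leaf))))) 24576 8196 2 6 (.node (.node (.node (.node (.node (.node .leaf 32769 262146 2 6 .leaf) 32770 262145 2 3 .leaf) 32772 32770 0 4 (.node .leaf 32776 2359296 2 7 .leaf)) 32784 32832 0 7 (.node (.node .leaf 32800 278528 2 6 .leaf) 32832 294912 0 6 (.node .leaf 32896 262208 2 7 .leaf))) 33024 786432 2 8 (.node (.node (.node .leaf 33280 1310720 2 7 .leaf) 33792 32800 0 7 (.node .leaf 34816 4227072 0 6 .leaf)) 36864 262176 2 6 (.node (.node .leaf 40960 36864 0 7 .leaf) 49152 262148 2 6 (.node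 .leaf 65537 2050 2 6 .leaf)))) 65538 2049 2 5 (.node (.node (.node (.node (.node .leaf 65540 514 0 6 .leaf) 65544 2099200 2 8 .leaf) 65552 528384 1 6 (.node .leaf 65568 18432 2 7 .leaf)) 65600 4100 1 7 (.node (.node .leaf 65664 2112 2 7 .leaf) 65792 526336 2 7 (.node .leaf 66048 768 0 8 .leaf))) 66560 544 0 7 (.node (.node (.node .leaf 67584 8390656 2 8 .leaf) 69632 4352 1 8 (.node .leaf 73728 10240 2 8 .leaf)) 81920 2052 2 7 (.node (.node .leaf 98304 33280 0 8 .leaf) 131073 524289 0 5 (.node .leaf 131074 10 1 6 .leaf)))))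

/-- part of `pairFull1` -/
def pairFull1P2 : OTree :=
  .node (.node (.node (.node (.node (.node (.node .leaf 131080 524296 0 7 .leaf) 131088 524296 1 7 .leaf) 131104 16896 2 6 (.node .leaf 131136 12 1 7 .leaf)) 131200 2621440 0 7 (.node (.node .leaf 131328 524800 2 6 .leaf) 131584 1049088 2 8 (.node .leaf 132096 524320 0 7 .leaf))) 133120 40 1 8 (.node (.node (.node (.node .leaf 135168 544 2 7 .leaf) 139264 528384 0 6 .leaf) 147456 72 1 6 (.node .leaf 163840 557056 0 7 .leaf)) 196608 524800 0 6 (.node (.node .leaf 262145 5 0 2 .leaf) 262146 18 1 5 (.node .leaf 262148 6 0 5 .leaf)))) 262152 12 0 7 (.node (.node (.node (.node (.node .leaf 262160 68 0 7 .leaf) 262176 1048580 0 5 .leaf) 262208 262148 0 6 (.node .leaf 262272 2097156 0 6 .leaf)) 262400 8196 0 6 (.node (.node .leaf 262656 1049600 2 7 .leaf) 263168 36 0 7 (.node .leaf 264192 4194308 0 8 .leaf))) 266240 65540 0 7 (.node (.node (.node .leaf 270336 4100 0 7 .leaf) 278528 80 1 5 (.node .leaf 294912 32772 0 5 .leaf))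 327680 516 0 7 (.node (.node .leaf 393216 524292 0 4 .leaf) 524289 16385 0 4 (.node .leaf 524290 16386 1 3 .leaf))))) 524292 16386 0 3 (.node (.node (.node (.node (.node (.node .leaf 524296 1064960 1 6 .leaf) 524304 16448 0 8 .leaf) 524320 1064960 0 6 (.node .leaf 524352 278528 0 6 .leaf)) 524416 4194368 2 6 (.node (.node .leaf 524544 24576 0 7 .leaf) 524800 16640 0 5 (.node .leaf 525312 17408 1 8 .leaf))) 526336 4210688 0 6 (.node (.node (.node .leaf 528384 16640 1 5 .leaf) 532480 16896 1 6 (.node .leaf 540672 18432 0 7 .leaf)) 557056 4456448 2 6 (.node (.node .leaf 589824 16896 0 6 .leaf) 655360 16392 1 7 (.node .leaf 786432 16388 0 7 .leaf)))) 1048577 129 0 4 (.node (.node (.node (.node (.node .leaf 1048578 2097154 1 5 .leaf) 1048580 130 0 4 .leaf) 1048584 3145728 1 7 (.node .leaf 1048592 192 0 7 .leaf)) 1048608 49152 2 7 (.node (.node .leaf 1048640 2097156 1 6 .leaf) 1048704 32832 2 7 (.node .leaf 1048832 10485760 1 7 .leaf))) 1049088 1081344 2 7 (.node (.node (.node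 .leaf 1049600 160 0 6 .leaf) 1050624 2097184 1 8 (.node .leaf 1052672 32800 2 7 .leaf)) 1056768 4224 0 7 (.node (.node .leaf 1064960 32772 2 5 .leaf) 1081344 294912 2 6 (.node .leaf 1114112 2101248 1 7 .leaf)))))

/-- part of `pairFull1` -/
def pairFull1P3 : OTree :=
  .node (.node (.node (.node (.node (.node (.node .leaf 1310720 132 0 6 .leaf) 1572864 4227072 2 6 .leaf) 2097153 130 2 4 (.node .leaf 2097154 129 2 4 .leaf)) 2097156 1026 0 5 (.node (.node .leaf 2097160 2097280 2 7 .leaf) 2097168 1088 0 7 (.node .leaf 2097184 1049600 0 7 .leaf))) 2097216 263168 0 8 (.node (.node (.node (.node .leaf 2097280 4456448 1 6 .leaf) 2097408 524416 2 7 .leaf) 2097664 1048704 2 8 (.node .leaf 2098176 144 2 7 .leaf)) 2099200 8388736 2 7 (.node (.node .leaf 2101248 160 2 6 .leaf) 2105344 8320 2 8 (.node .leaf 2113536 132 2 6 .leaf)))) 2129920 262272 2 7 (.node (.node (.node (.node (.node .leaf 2162688 2176 2 7 .leaf) 2228224 640 2 8 .leaf) 2359296 1028 0 6 (.node .leaf 2621440 4210688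 1 6 .leaf)) 3145728 1152 0 6 (.node (.node .leaf 4194305 2049 1 5 .leaf) 4194306 131073 2 6 (.node .leaf 4194308 2176 1 7 .leaf))) 4194312 131080 0 8 (.node (.node (.node .leaf 4194320 526336 1 7 .leaf) 4194336 147456 2 7 (.node .leaf 4194368 393216 0 5 .leaf)) 4194432 131136 2 8 (.node (.node .leaf 4194560 139264 0 7 .leaf) 4194816 131328 0 7 (.node .leaf 4195328 131104 0 7 .leaf))))) 4196352 2080 1 8 (.node (.node (.node (.node (.node (.node .leaf 4198400 131104 2 7 .leaf) 4202496 139264 2 7 .leaf) 4210688 131076 2 5 (.node .leaf 4227072 393216 2 5 .leaf)) 4259840 133120 2 9 (.node (.node .leaf 4325376 655360 0 8 .leaf) 4456448 131076 0 5 (.node .leaf 4718592 18432 1 7 .leaf))) 5242880 2099200 1 8 (.node (.node (.node .leaf 6291456 132096 0 8 .leaf) 8388609 4098 2 5 (.node .leaf 8388610 32770 1 4 .leaf)) 8388612 8388610 0 5 (.node (.node .leaf 8388616 1081344 1 7 .leaf) 8388624 8388672 0 6 (.node .leaf 8388640 20480 2 8 .leaf)))) 8388672 32772 1 5 (.node (.node (.node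 (.node (.node .leaf 8388736 294912 1 6 .leaf) 8388864 528384 2 6 .leaf) 8389120 8388864 0 7 (.node .leaf 8389632 33792 1 8 .leaf)) 8390656 32800 1 7 (.node (.node .leaf 8392704 8454144 0 8 .leaf) 8396800 33280 1 8 (.node .leaf 8404992 32832 1 7 .leaf))) 8421376 266240 2 8 (.node (.node (.node .leaf 8454144 36864 1 7 .leaf) 8519680 32776 1 8 (.node .leaf 8650752 8388612 0 6 .leaf)) 8912896 49152 1 7 (.node (.node .leaf 9437184 8388736 0 7 .leaf) 10485760 4227072 1 6 (.node .leaf 12582912 34816 1 7 .leaf)))))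

/-- an orbit of size 276 -/
def pairFull1 : OTree :=
  .node (.node pairFull1P0 4104 2097184 2 8 pairFull1P1) 131076 524290 0 4 (.node pairFull1P2 1179648 524416 0 7 pairFull1P3)

/-- maximality data for suborbit 1 -/
def pairSub1 : SubData :=
  ⟨pairOrb1, 5, (0x17000b00070005001100060016000c000f00130008000d000e00150010000900140004000a00010003001200020000, 0x8008a08008808008208008008000a08000808000208000000008a00008800008200008000000a000008000002000000042104042004002104002004042100042000002100002000040104040004000104000004040100040000000100000000008a10008810008a00008800000a10000810000a00000800008210008010008200008000000210000010000200000000021420021400020420020400001420001400000420000400021020021000020020020000001020001000000020000000010041210041010001210001010040210040010000210000000041200041000001200001000040200040000000200000004000d04000c04000904000800000d00000c000009000008040005040004040001040000000005000004000001000000), [0,10], pairFull1⟩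

theorem pairSub1_ok :
    pairSub1.ok maskCoding m24Cert pairCertGens pair0 pairTree = true := by decide +kernel

/-- part of `pairFull2` -/
def pairFull2P0 : OTree :=
  .node (.node (.node (.node (.node (.node (.node .leaf 3 0 0 0 .leaf) 5 2097153 0 6 .leaf) 6 4194305 0 6 (.node .leaf 9 1048577 1 7 .leaf)) 10 2097153 2 6 (.node (.node .leaf 12 3 0 1 .leaf) 17 2097156 0 5 (.node .leaf 18 524290 1 7 .leaf))) 20 5 0 7 (.node (.node (.node (.node .leaf 24 2097160 2 6 .leaf) 33 2097160 0 6 .leaf) 34 131074 1 7 (.node .leaf 36 81920 2 6 .leaf)) 40 2113536 2 6 (.node (.node .leaf 48 12 0 2 .leaf) 65 5 1 7 (.node .leaf 66 4194320 0 6 .leaf)))) 68 132 1 5 (.node (.node (.node (.node (.node .leaf 72 1048580 1 6 .leaf) 80 264 2 6 .leaf) 96 24 0 7 (.node .leaf 129 66 2 7 .leaf)) 130 4194336 0 7 (.node (.node .leaf 132 65600 2 4 .leaf) 136 2097216 2 7 (.node .leaf 144 786432 1 4 .leaf))) 160 393216 1 6 (.node (.node (.node .leaf 192 48 0 3 .leaf) 257 2097216 0 7 (.node .leaf 258 8388610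 1 7 .leaf)) 260 589824 2 6 (.node (.node .leaf 264 2621440 2 5 .leaf) 272 68 0 6 (.node .leaf 288 72 0 7 .leaf))))) 320 524544 2 4 (.node (.node (.node (.node (.node (.node .leaf 384 8650752 1 5 .leaf) 513 2097280 0 5 .leaf) 514 4194432 0 4 (.node .leaf 516 65664 1 5 .leaf)) 520 3145728 2 5 (.node (.node .leaf 528 132 0 5 .leaf) 544 1064960 2 6 (.node .leaf 576 144 0 5 .leaf))) 640 327680 1 6 (.node (.node (.node (.node .leaf 768 192 0 4 .leaf) 1025 2097408 0 7 .leaf) 1026 17 2 6 (.node .leaf 1028 65552 2 6 .leaf)) 1032 1049600 1 6 (.node (.node .leaf 1040 24 2 7 .leaf) 1056 16400 2 3 (.node .leaf 1088 1028 1 7 .leaf)))) 1152 263168 1 7 (.node (.node (.node (.node (.node .leaf 1280 320 0 5 .leaf) 1536 66560 1 5 .leaf) 2049 33 1 7 (.node .leaf 2050 4194816 0 7 .leaf)) 2052 513 0 6 (.node (.node .leaf 2056 514 0 5 .leaf) 2064 516 0 6 (.node .leaf 2080 131104 1 6 .leaf))) 2112 528 0 6 (.node (.node (.node .leaf 2176 544 0 7 .leaf) 2304 8388640 1 6 (.node .leaf 2560 9437184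 2 6 .leaf)) 3072 1056 1 4 (.node (.node .leaf 4097 2098176 0 5 .leaf) 4098 4195328 0 6 (.node .leaf 4100 384 1 6 .leaf)))))

/-- part of `pairFull2` -/
def pairFull2P1 : OTree :=
  .node (.node (.node (.node (.node (.node (.node .leaf 4112 524544 1 4 .leaf) 4128 16416 2 4 .leaf) 4160 260 1 7 (.node .leaf 4224 1056 0 4 .leaf)) 4352 8388864 1 7 (.node (.node .leaf 4608 65792 1 6 .leaf) 5120 48 2 3 (.node .leaf 6144 8388640 2 6 .leaf))) 8193 513 1 6 (.node (.node (.node (.node .leaf 8194 514 1 5 .leaf) 8196 640 1 7 .leaf) 8200 2105344 2 6 (.node .leaf 8208 2052 0 7 .leaf)) 8224 2056 0 6 (.node (.node .leaf 8256 516 1 6 .leaf) 8320 262656 1 6 (.node .leaf 8448 8389120 1 6 .leaf)))) 8704 1056768 2 5 (.node (.node (.node (.node (.node .leaf 9216 1536 1 6 .leaf) 10240 8396800 2 7 .leaf) 12288 768 1 5 (.node .leaf 16385 6 2 7 .leaf)) 16386 4198400 0 7 (.node (.node .leaf 16388 192 1 4 .leaf) 16392 2097156 2 5 (.node .leaf 16400 12 2 2 .leaf))) 16416 131136 1 3 (.node (.node (.node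 .leaf 16448 4112 0 5 .leaf) 16512 4128 0 5 (.node .leaf 16640 524292 2 7 .leaf)) 16896 65600 1 4 (.node (.node .leaf 17408 1088 1 8 .leaf) 18432 4608 0 7 (.node .leaf 20480 5120 0 4 .leaf))))) 24576 576 1 6 (.node (.node (.node (.node (.node (.node .leaf 32769 2105344 0 6 .leaf) 32770 8194 1 6 .leaf) 32772 327680 2 6 (.node .leaf 32776 1056768 1 5 .leaf)) 32784 262152 2 6 (.node (.node .leaf 32800 139264 1 7 .leaf) 32832 262400 2 5 (.node .leaf 32896 262208 2 7 .leaf))) 33024 786432 2 4 (.node (.node (.node .leaf 33280 1310720 2 7 .leaf) 33792 8448 0 7 (.node .leaf 34816 8650752 2 5 .leaf)) 36864 8448 1 7 (.node (.node .leaf 40960 8704 1 6 .leaf) 49152 12288 0 6 (.node .leaf 65537 4097 1 6 .leaf)))) 65538 4098 1 7 (.node (.node (.node (.node (.node .leaf 65540 4224 1 5 .leaf) 65544 1052672 1 8 .leaf) 65552 16388 0 5 (.node .leaf 65568 16392 0 6 .leaf)) 65600 16400 0 3 (.node (.node .leaf 65664 16416 0 4 .leaf) 65792 526336 2 5 (.node .leaf 66048 16512 0 6 .leaf))) 66560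 5120 1 4 (.node (.node (.node .leaf 67584 4128 1 5 .leaf) 69632 2080 2 7 (.node .leaf 73728 4608 1 7 .leaf)) 81920 20480 0 5 (.node (.node .leaf 98304 264192 2 4 .leaf) 131073 514 2 5 (.node .leaf 131074 513 2 6 .leaf)))))

/-- part of `pairFull2` -/
def pairFull2P2 : OTree :=
  .node (.node (.node (.node (.node (.node (.node .leaf 131080 1048584 1 6 .leaf) 131088 520 2 6 .leaf) 131104 16896 2 5 (.node .leaf 131136 12 1 2 .leaf)) 131200 262152 1 6 (.node (.node .leaf 131328 32832 0 6 .leaf) 131584 32896 0 8 (.node .leaf 132096 33024 0 5 .leaf))) 133120 8389120 2 6 (.node (.node (.node (.node .leaf 135168 264 1 6 .leaf) 139264 8704 2 6 .leaf) 147456 516 2 6 (.node .leaf 163840 262656 2 6 .leaf)) 196608 49152 0 7 (.node (.node .leaf 262145 17 1 6 .leaf) 262146 4259840 0 7 (.node .leaf 262148 66560 2 5 .leaf)))) 262152 2098176 2 5 (.node (.node (.node (.node (.node .leaf 262160 65540 0 6 .leaf) 262176 131088 1 7 .leaf) 262208 65552 0 6 (.node .leaf 262272 65568 0 7 .leaf))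 262400 65600 0 4 (.node (.node .leaf 262656 65664 0 5 .leaf) 263168 65792 0 6 (.node .leaf 264192 48 1 3 .leaf))) 266240 1056 2 4 (.node (.node (.node .leaf 270336 67584 0 6 .leaf) 278528 1028 2 7 (.node .leaf 294912 263168 2 7 .leaf)) 327680 4112 1 5 (.node (.node .leaf 393216 98304 0 5 .leaf) 524289 4194306 2 7 (.node .leaf 524290 4194305 2 6 .leaf))))) 524292 16512 1 6 (.node (.node (.node (.node (.node (.node .leaf 524296 1064960 1 6 .leaf) 524304 540672 1 7 .leaf) 524320 147456 1 7 (.node .leaf 524352 16388 1 5 .leaf)) 524416 131104 0 6 (.node (.node .leaf 524544 131136 0 3 .leaf) 524800 81920 1 6 (.node .leaf 525312 4194320 2 6 .leaf))) 526336 16416 1 4 (.node (.node (.node .leaf 528384 132096 0 6 .leaf) 532480 16896 1 5 (.node .leaf 540672 16448 1 6 .leaf)) 557056 139264 0 7 (.node (.node .leaf 589824 20480 1 5 .leaf) 655360 16392 1 6 (.node .leaf 786432 16400 1 3 .leaf)))) 1048577 2097153 1 6 (.node (.node (.node (.node (.node .leaf 1048578 32769 2 7 .leaf) 1048580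 2097280 1 5 .leaf) 1048584 3145728 1 5 (.node .leaf 1048592 2621440 1 5 .leaf)) 1048608 262152 0 6 (.node (.node .leaf 1048640 2097156 1 5 .leaf) 1048704 32832 2 6 (.node .leaf 1048832 10485760 1 6 .leaf))) 1049088 1081344 2 7 (.node (.node (.node .leaf 1049600 2098176 1 5 .leaf) 1050624 262656 0 6 (.node .leaf 1052672 2097408 1 7 .leaf)) 1056768 264192 0 4 (.node (.node .leaf 1064960 266240 0 5 .leaf) 1081344 2105344 1 6 (.node .leaf 1114112 34816 2 6 .leaf)))))

/-- part of `pairFull2` -/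
def pairFull2P3 : OTree :=
  .node (.node (.node (.node (.node (.node (.node .leaf 1310720 327680 0 6 .leaf) 1572864 4227072 2 6 .leaf) 2097153 2621440 0 5 (.node .leaf 2097154 4194306 1 7 .leaf)) 2097156 4194432 1 4 (.node (.node .leaf 2097160 2097280 2 5 .leaf) 2097168 524292 0 7 (.node .leaf 2097184 16512 2 6 .leaf))) 2097216 384 2 6 (.node (.node (.node (.node .leaf 2097280 192 2 4 .leaf) 2097408 524352 0 6 .leaf) 2097664 1048704 2 7 (.node .leaf 2098176 524544 0 4 .leaf)) 2099200 524800 0 7 (.node (.node .leaf 2101248 160 2 7 .leaf) 2105344 526336 0 5 (.node .leaf 2113536 132 2 5 .leaf)))) 2129920 532480 0 6 (.node (.node (.node (.node (.node .leaf 2162688 4198400 1 7 .leaf) 2228224 640 2 7 .leaf) 2359296 589824 0 6 (.node .leaf 2621440 4194432 2 4 .leaf)) 3145728 786432 0 4 (.node (.node .leaf 4194305 3145728 0 5 .leaf) 4194306 131073 2 6 (.node .leaf 4194308 1048577 0 7 .leaf))) 4194312 1050624 1 7 (.node (.node (.node .leaf 4194320 526336 1 5 .leaf) 4194336 1048584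 0 6 (.node .leaf 4194368 1048592 0 6 .leaf)) 4194432 131136 2 3 (.node (.node .leaf 4194560 1048640 0 6 .leaf) 4194816 67584 1 6 (.node .leaf 4195328 3072 1 5 .leaf))))) 4196352 8519680 2 7 (.node (.node (.node (.node (.node (.node .leaf 4198400 1049600 0 6 .leaf) 4202496 139264 2 7 .leaf) 4210688 2112 1 7 (.node .leaf 4227072 1056768 0 5 .leaf)) 4259840 1064960 0 6 (.node (.node .leaf 4325376 2056 1 6 .leaf) 4456448 132096 2 6 (.node .leaf 4718592 1179648 0 7 .leaf))) 5242880 1310720 0 7 (.node (.node (.node .leaf 6291456 1572864 0 7 .leaf) 8388609 10485760 0 6 (.node .leaf 8388610 4097 2 6 .leaf)) 8388612 8388609 0 7 (.node (.node .leaf 8388616 8388610 0 7 .leaf) 8388624 557056 1 8 (.node .leaf 8388640 20480 2 5 .leaf)))) 8388672 32772 1 7 (.node (.node (.node (.node (.node .leaf 8388736 8388640 0 6 .leaf) 8388864 8421376 1 6 .leaf) 8389120 98304 1 5 (.node .leaf 8389632 4112 2 5 .leaf)) 8390656 8389120 0 6 (.node (.node .leaf 8392704 4128 2 5 .leaf) 8396800 12288 2 6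 (.node .leaf 8404992 8392704 0 6 .leaf))) 8421376 266240 2 5 (.node (.node (.node .leaf 8454144 6144 2 7 .leaf) 8519680 32776 1 6 (.node .leaf 8650752 5120 2 4 .leaf)) 8912896 49152 1 7 (.node (.node .leaf 9437184 8650752 0 5 .leaf) 10485760 4224 2 5 (.node .leaf 12582912 9437184 0 6 .leaf)))))

/-- an orbit of size 276 -/
def pairFull2 : OTree :=
  .node (.node pairFull2P0 4104 2097184 2 7 pairFull2P1) 131076 32769 0 7 (.node pairFull2P2 1179648 2097160 1 6 pairFull2P3)

/-- maximality data for suborbit 2 -/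
def pairSub2 : SubData :=
  ⟨pairOrb2, 12, (0x17000100000016001500140013001200110010000f000e000d000c000b000a00090008000700060005000400030002, 0xc00003800003c00002800002c00001800001c000008000004000030000034000020000024000010000014000000000003c00003800003400003000002c00002800002400002000001c00001800001400001000000c000008000004000000000003c00003800003400003000002c00002800002400002000001c00001800001400001000000c000008000004000000000003c00003800003400003000002c00002800002400002000001c00001800001400001000000c000008000004000000000003c00003800003400003000002c00002800002400002000001c00001800001400001000000c000008000004000000000003c00003800003400003000002c00002800002400002000001c00001800001400001000000c000008000004000000), [2], pairFull2⟩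

theorem pairSub2_ok :
    pairSub2.ok maskCoding m24Cert pairCertGens pair0 pairTree = true := by decide +kernel

/-- all maximality data -/
def pairSubs : List SubData := [pairSub1, pairSub2]

theorem pairSubs_ok :
    pairSubs.all (fun e => e.ok maskCoding m24Cert pairCertGens pair0 pairTree) = true := by
  simp [pairSubs, pairSub1_ok, pairSub2_ok]

theorem pairSubs_cover :
    pairTree.allNodes (fun k _ _ _ => Nat.beq k pair0 || pairSubs.any fun e => e.sub.mem k) = true := by
  decide +kernel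

end Cfsg.Agent.Lib.GolayOrbit
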