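import Cfsg.Agent.Lib.Golay.PointPairData
import Cfsg.Agent.Lib.Golay.Partition

/-!
# Suborbits for two points and a pair
-/

set_option autoImplicit false

namespace Cfsg.Agent.Lib.GolayOrbit

open Cfsg Cfsg.Agent.Lib.Compute
open scoped Pointwise

/-- part of `pointPairOrb1` -/
def pointPairOrb1P0 : OTree :=
  .node (.node (.node (.node .leaf 144 0 0 0 .leaf) 576 144 1 1 (.node .leaf 1040 1152 0 2 .leaf)) 1152 144 0 1 (.node (.node .leaf 2112 2359296 0 5 .leaf) 2560 4112 1 5 (.node .leaf 4112 147456 1 4 .leaf))) 4224 4112 0 5 (.node (.node (.node .leaf 5120 8404992 1 3 .leaf) 16416 33024 1 4 (.node .leaf 33024 65792 0 3 .leaf)) 65792 576 1 2 (.node (.node .leaf 98304 33024 0 4 .leaf) 131104 65792 1 3 (.node .leaf 147456 4194368 0 3 .leaf)))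

/-- part of `pointPairOrb1` -/
def pointPairOrb1P1 : OTree :=
  .node (.node (.node (.node .leaf 524544 4194368 1 3 .leaf) 557056 524544 0 4 (.node .leaf 589824 4194816 1 4 .leaf)) 1056768 8519680 0 5 (.node (.node .leaf 1310720 147456 0 4 .leaf) 2105344 8388640 0 5 (.node .leaf 2359296 270336 1 4 .leaf))) 3145728 131104 0 4 (.node (.node (.node .leaf 4194368 1152 1 2 .leaf) 4194816 1040 1 3 (.node .leaf 4196352 5120 1 4 .leaf)) 8388640 524544 1 4 (.node (.node .leaf 8404992 576 0 2 .leaf) 8519680 4194816 0 4 .leaf))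

/-- an orbit of size 30 -/
def pointPairOrb1 : OTree :=
  .node pointPairOrb1P0 270336 8404992 0 3 pointPairOrb1P1

theorem pointPairOrb1_ok : orbOk maskCoding.img maskCoding.good pointPairCertGens 144 pointPairOrb1 = true := by decide +kernel

theorem pointPairOrb1_incr : incr pointPairOrb1.keys = true := by decide +kernel

theorem pointPairOrb1_length : pointPairOrb1.keys.length = 30 := by decide +kernel

/-- part of `pointPairOrb2` -/
def pointPairOrb2P0 : OTree :=
  .node (.node (.node (.node (.node .leaf 20 0 0 0 .leaf) 24 131076 1 8 .leaf) 36 2052 0 6 (.node (.node .leaf 40 260 1 4 .leaf) 68 262148 0 6 .leaf)) 72 132 1 2 (.node (.node (.node .leaf 132 20 0 1 .leaf) 136 36 1 7 .leaf) 260 72 1 3 (.node .leaf 264 68 1 7 .leaf))) 516 8196 0 7 (.node (.node (.node (.node .leaf 520 20 1 1 .leaf) 1028 132 0 2 .leaf) 1032 136 0 8 (.node .leaf 2052 2097156 0 5 .leaf)) 2056 4100 1 5 (.node (.node (.node .leaf 4100 16392 1 4 .leaf) 4104 16388 1 8 .leaf) 8196 2097160 1 6 (.node .leaf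 8200 8388616 0 3 .leaf)))

/-- part of `pointPairOrb2` -/
def pointPairOrb2P1 : OTree :=
  .node (.node (.node (.node (.node .leaf 16392 72 0 3 .leaf) 32772 260 0 4 .leaf) 32776 2052 1 6 (.node .leaf 65540 520 1 2 .leaf)) 65544 32776 0 7 (.node (.node (.node .leaf 131076 4194308 0 7 .leaf) 131080 65540 1 3 .leaf) 262148 262152 1 5 (.node .leaf 262152 16392 0 4 .leaf))) 524292 4194312 1 4 (.node (.node (.node (.node .leaf 524296 4194308 1 7 .leaf) 1048580 1048584 1 5 .leaf) 1048584 131080 0 4 (.node .leaf 2097156 8200 1 4 .leaf)) 2097160 40 0 5 (.node (.node (.node .leaf 4194308 1048580 0 6 .leaf) 4194312 1028 1 3 .leaf) 8388612 516 0 8 (.node .leaf 8388616 520 0 2 .leaf)))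

/-- an orbit of size 40 -/
def pointPairOrb2 : OTree :=
  .node pointPairOrb2P0 16388 68 0 7 pointPairOrb2P1

theorem pointPairOrb2_ok : orbOk maskCoding.img maskCoding.good pointPairCertGens 20 pointPairOrb2 = true := by decide +kernel

theorem pointPairOrb2_incr : incr pointPairOrb2.keys = true := by decide +kernel

theorem pointPairOrb2_length : pointPairOrb2.keys.length = 40 := by decide +kernel

/-- part of `pointPairOrb3` -/
def pointPairOrb3P0 : OTree :=
  .node (.node (.node (.node (.node (.node (.node .leaf 48 0 0 0 .leaf) 80 263168 0 6 .leaf) 96 264192 0 8 (.node (.node .leaf 160 288 1 9 .leaf) 192 262160 0 9 .leaf)) 272 131136 1 8 (.node (.node (.node .leaf 288 320 1 8 .leaf) 320 327680 0 7 .leaf) 384 65552 0 8 (.node .leaf 528 131088 1 5 .leaf))) 544 10240 0 7 (.node (.node (.node (.node .leaf 640 48 1 1 .leaf) 768 73728 0 6 .leaf) 1056 2176 0 6 (.node .leaf 1088 8388736 1 7 .leaf)) 1280 65664 0 8 (.node (.node (.node .leaf 1536 8388624 1 7 .leaf) 2064 135168 1 9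 .leaf) 2080 4352 1 6 (.node .leaf 2176 4128 1 5 .leaf)))) 2304 4160 1 8 (.node (.node (.node (.node (.node .leaf 3072 2097280 0 2 .leaf) 4128 16640 1 4 .leaf) 4160 266240 0 7 (.node .leaf 4352 69632 0 5 .leaf)) 4608 12288 0 7 (.node (.node (.node .leaf 6144 2101248 0 6 .leaf) 8208 8389632 0 3 .leaf) 8224 2097408 1 4 (.node .leaf 8256 2097280 1 2 .leaf))) 8320 8388624 0 7 (.node (.node (.node (.node .leaf 8448 2097216 1 9 .leaf) 8704 2097168 1 8 .leaf) 9216 8388736 0 7 (.node .leaf 10240 2101248 1 6 .leaf)) 12288 8392704 0 6 (.node (.node (.node .leaf 16400 1088 0 8 .leaf) 16448 262208 0 7 .leaf) 16512 80 0 7 (.node .leaf 16640 65600 0 3 .leaf))))) 16896 8256 0 3 (.node (.node (.node (.node (.node (.node .leaf 17408 8421376 1 8 .leaf) 18432 36864 1 7 .leaf) 20480 49152 1 6 (.node .leaf 24576 2129920 1 8 .leaf)) 32784 133120 1 6 (.node (.node (.node .leaf 32800 2304 0 9 .leaf) 32832 2176 1 6 .leaf) 32896 2080 1 7 (.node .leaf 33280 8448 0 10 .leaf))) 33792 8390656 1 6 (.node (.node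 (.node (.node .leaf 34816 2097408 0 4 .leaf) 36864 4352 0 6 .leaf) 40960 8388864 0 8 (.node .leaf 49152 34816 1 5 .leaf)) 65552 33792 0 7 (.node (.node (.node .leaf 65568 34816 0 5 .leaf) 65600 640 1 2 .leaf) 65664 32784 0 7 (.node .leaf 66048 528 1 6 .leaf)))) 66560 32896 0 8 (.node (.node (.node (.node (.node .leaf 67584 4608 1 8 .leaf) 69632 16896 1 4 .leaf) 73728 2097664 1 5 (.node .leaf 81920 32832 0 7 .leaf)) 131088 4195328 0 4 (.node (.node (.node .leaf 131136 4456448 0 7 .leaf) 131200 65568 1 6 .leaf) 131328 65600 1 3 (.node .leaf 131584 65552 1 8 .leaf))) 132096 4194432 0 8 (.node (.node (.node (.node .leaf 133120 69632 1 5 .leaf) 135168 81920 1 8 .leaf) 139264 2162688 1 10 (.node .leaf 163840 67584 1 9 .leaf)) 196608 4227072 0 4 (.node (.node (.node .leaf 262160 393216 1 8 .leaf) 262176 18432 0 8 .leaf) 262208 278528 0 6 (.node .leaf 262272 262176 1 9 .leaf)))))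

/-- part of `pointPairOrb3` -/
def pointPairOrb3P1 : OTree :=
  .node (.node (.node (.node (.node (.node (.node .leaf 262656 262160 1 9 .leaf) 263168 8650752 1 5 .leaf) 264192 266240 1 7 (.node .leaf 266240 278528 1 6 .leaf)) 278528 294912 1 5 (.node (.node (.node .leaf 294912 16640 0 4 .leaf) 327680 49152 0 6 .leaf) 393216 327680 1 7 (.node .leaf 524304 4325376 1 10 .leaf))) 524320 4194560 1 9 (.node (.node (.node (.node .leaf 524352 786432 0 6 .leaf) 524416 4194336 1 9 .leaf) 524800 532480 0 7 (.node .leaf 525312 524416 0 10 .leaf)) 526336 4198400 1 8 (.node (.node (.node .leaf 528384 4210688 1 8 .leaf) 532480 8912896 0 6 .leaf) 540672 4227072 1 4 (.node .leaf 655360 4718592 0 5 .leaf)))) 786432 540672 0 5 (.node (.node (.node (.node (.node .leaf 1048592 132096 0 9 .leaf) 1048608 1048832 1 6 .leaf) 1048640 1048704 1 6 (.node .leaf 1048704 131088 0 5 .leaf)) 1048832 196608 0 5 (.node (.node (.node .leaf 1049088 1048592 1 10 .leaf) 1049600 131200 0 7 .leaf) 1050624 2228224 0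 7 (.node .leaf 1052672 1064960 1 6 .leaf))) 1064960 1081344 1 5 (.node (.node (.node (.node .leaf 1081344 131328 0 4 .leaf) 1114112 163840 0 10 .leaf) 1179648 4325376 0 10 (.node .leaf 1572864 655360 0 6 .leaf)) 2097168 1056 0 7 (.node (.node (.node .leaf 2097184 2080 0 7 .leaf) 2097216 8320 1 8 .leaf) 2097280 48 0 1 (.node .leaf 2097408 8256 1 3 .leaf))))) 2097664 8208 1 4 (.node (.node (.node (.node (.node (.node .leaf 2098176 160 0 10 .leaf) 2099200 12288 1 7 .leaf) 2101248 4128 0 5 (.node .leaf 2113536 40960 1 9 .leaf)) 2129920 10240 1 7 (.node (.node (.node .leaf 2162688 8704 1 9 .leaf) 2228224 73728 1 6 .leaf) 2621440 4202496 1 9 (.node .leaf 4194320 1049600 0 8 .leaf))) 4194336 1050624 0 8 (.node (.node (.node (.node .leaf 4194432 1056 1 7 .leaf) 4194560 1088 1 8 .leaf) 4195328 8389632 1 3 (.node .leaf 4198400 1052672 0 7 .leaf)) 4202496 9437184 0 8 (.node (.node (.node .leaf 4210688 33792 1 7 .leaf) 4227072 3072 1 3 .leaf) 4259840 1081344 0 5 (.node .leaf 4325376 66560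 1 9 .leaf)))) 4456448 263168 1 6 (.node (.node (.node (.node (.node .leaf 4718592 4195328 1 4 .leaf) 5242880 1049600 1 8 .leaf) 6291456 1048608 0 7 (.node .leaf 8388624 655360 1 6 .leaf)) 8388672 262656 0 10 (.node (.node (.node .leaf 8388736 528 0 6 .leaf) 8388864 524352 1 7 .leaf) 8389120 8704 0 9 (.node .leaf 8389632 640 0 2 .leaf))) 8390656 2097664 0 5 (.node (.node (.node (.node .leaf 8392704 540672 1 5 .leaf) 8396800 2621440 1 10 .leaf) 8421376 768 0 7 (.node .leaf 8454144 524800 1 8 .leaf)) 8650752 16896 0 4 (.node (.node (.node .leaf 8912896 4718592 1 5 .leaf) 9437184 1572864 1 7 .leaf) 10485760 532480 1 7 (.node .leaf 12582912 525312 1 11 .leaf)))))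

/-- an orbit of size 160 -/
def pointPairOrb3 : OTree :=
  .node pointPairOrb3P0 262400 262208 1 7 pointPairOrb3P1

theorem pointPairOrb3_ok : orbOk maskCoding.img maskCoding.good pointPairCertGens 48 pointPairOrb3 = true := by decide +kernel

theorem pointPairOrb3_incr : incr pointPairOrb3.keys = true := by decide +kernel

theorem pointPairOrb3_length : pointPairOrb3.keys.length = 160 := by decide +kernel

theorem pointPairOrbs_cover :
    pointPairTree.allNodes (fun k _ _ _ => Nat.beq k ptPair0 || pointPairOrb1.mem k || pointPairOrb2.mem k || pointPairOrb3.mem k) = true := by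
  decide +kernel

end Cfsg.Agent.Lib.GolayOrbit
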