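import Cfsg.Agent.Lib.Golay.Partition

/-!
# Suborbits of arbitrary stabilisers
-/

set_option autoImplicit false

namespace Cfsg.Agent.Lib.GolayOrbit

open Cfsg Cfsg.Agent.Lib.Compute Equiv
open scoped Pointwise

variable {α : Type} [MulAction (Perm GolayPt) α] {C : Coding α} {c' : List Lvl} {gens gens' : List Gen}
  {x0 : ℕ} {t : OTree}

theorem StabCert.mem_M24_iff' (S : StabCert C m24Cert c' gens gens' x0 t) {σ : Perm GolayPt} :
    σ ∈ gpGrp c' ↔ σ ∈ M24 ∧ σ • C.dec x0 = C.dec x0 := by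
  rw [S.stab_iff, gpGrp_m24]

/-- An orbit of the stabiliser of any element of the orbit, as a translate of a base suborbit. -/
theorem StabCert.orbit_conj (S : StabCert C m24Cert c' gens gens' x0 t) {x : α} {g : Perm GolayPt}
    (hg : g ∈ M24) (hx : g • x = C.dec x0) {r : ℕ} {s : OTree}
    (ho : orbOk C.img C.good gens' r s = true) :
    MulAction.orbit ↥(MulAction.stabilizer M24 x) (g⁻¹ • C.dec r) =
      g⁻¹ • (C.dec '' {k | k ∈ s.keys}) := by
  ext y
  rw [MulAction.mem_orbit_iff, Set.mem_smul_set_iff_inv_smul_mem, inv_inv]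
  constructor
  · rintro ⟨⟨⟨σ, hσM⟩, hσ⟩, rfl⟩
    have hx' : x = g⁻¹ • C.dec x0 := eq_inv_smul_iff.2 hx
    have hm : g * σ * g⁻¹ ∈ gpGrp c' := by
      refine S.mem_M24_iff'.2 ⟨mul_mem (mul_mem hg hσM) (inv_mem hg), ?_⟩
      rw [mul_smul, mul_smul, ← hx']
      have hs : σ • x = x := hσ
      rw [hs, hx]
    obtain ⟨k, hk, he⟩ := (orbit_iff C S.gensFor' ho _).1 ⟨_, hm, rfl⟩
    refine ⟨k, hk, ?_⟩
    rw [he]
    simp only [mul_smul]
    rfl
  · rintro ⟨k, hk, he⟩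
    obtain ⟨τ, hτ, hτe⟩ := (orbit_iff C S.gensFor' ho _).2 ⟨k, hk, he⟩
    obtain ⟨hτM, hτx⟩ := S.mem_M24_iff'.1 hτ
    have hfix : (g⁻¹ * τ * g) • x = x := by
      rw [mul_smul, mul_smul, hx, hτx, ← hx, inv_smul_smul]
    refine ⟨⟨⟨g⁻¹ * τ * g, mul_mem (mul_mem (inv_mem hg) hτM) hg⟩, hfix⟩, ?_⟩
    show (g⁻¹ * τ * g) • g⁻¹ • C.dec r = y
    rw [mul_smul, mul_smul, smul_inv_smul, hτe, inv_smul_smul]

theorem StabCert.ncard_orbit_conj (S : StabCert C m24Cert c' gens gens' x0 t) {x : α}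
    {g : Perm GolayPt} (hg : g ∈ M24) (hx : g • x = C.dec x0) {r : ℕ} {s : OTree}
    (ho : orbOk C.img C.good gens' r s = true) (hi : incr s.keys = true) :
    (MulAction.orbit ↥(MulAction.stabilizer M24 x) (g⁻¹ • C.dec r)).ncard = s.keys.length := by
  rw [S.orbit_conj hg hx ho, Set.ncard_smul_set, Set.InjOn.ncard_image, ← List.coe_toFinset,
    Set.ncard_coe_finset, List.toFinset_card_of_nodup (nodup_of_incr hi)]
  intro a ha b hb e
  exact C.inj a b (good_keys C S.gensFor' ho ha) (good_keys C S.gensFor' ho hb) e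

/-- Maximality for every element of the orbit. -/
theorem StabCert.isCoatom_conj (S : StabCert C m24Cert c' gens gens' x0 t) {x : α}
    {g : Perm GolayPt} (hg : g ∈ M24) (hx : g • x = C.dec x0) (subs : List SubData)
    (hsub : subs.all (fun e => e.ok C m24Cert gens' x0 t) = true)
    (hcov : t.allNodes (fun k _ _ _ => Nat.beq k x0 || subs.any fun e => e.sub.mem k) = true)
    (hlt : certOrder c' < 244823040) : IsCoatom (MulAction.stabilizer M24 x) :=
  isCoatom_stabilizer_smul (⟨g⁻¹, inv_mem hg⟩ : M24) (x := C.dec x0) (y := x)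
    (show g⁻¹ • C.dec x0 = x by rw [← hx, inv_smul_smul])
    (S.isCoatom_stabilizer subs hsub hcov hlt)

theorem dec_orbit_mem_iff {c : List Lvl} {g' : List Gen} (hG : GensFor c g') {s : OTree} {r k : ℕ}
    (ho : orbOk C.img C.good g' r s = true) (hk : C.good k = true) :
    C.dec k ∈ C.dec '' {j | j ∈ s.keys} ↔ k ∈ s.keys := by
  refine ⟨fun ⟨j, hj, he⟩ => ?_, fun h => ⟨k, h, rfl⟩⟩
  exact C.inj j k (good_keys C hG ho hj) hk he ▸ hj

/-- A tree split into the base key and some subtrees. -/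
theorem keys_eq_union {t : OTree} {x0 : ℕ} (ss : List OTree) (h0 : t.mem x0 = true)
    (h1 : t.allNodes (fun k _ _ _ => Nat.beq k x0 || ss.any fun s => s.mem k) = true)
    (h2 : ss.all (fun s => s.allNodes fun k _ _ _ => t.mem k) = true) :
    {k | k ∈ t.keys} = {x0} ∪ {k | ∃ s ∈ ss, k ∈ s.keys} := by
  ext k
  constructor
  · intro hk
    obtain ⟨p, g, d, hn⟩ := OTree.mem_keys_iff.1 hk
    have := OTree.of_allNodes h1 hn
    simp only [Bool.or_eq_true, List.any_eq_true] at this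
    rcases this with h | ⟨s, hs, hm⟩
    · exact Or.inl (Nat.eq_of_beq_eq_true h)
    · exact Or.inr ⟨s, hs, OTree.mem_keys_of_mem hm⟩
  · rintro (rfl | ⟨s, hs, hk⟩)
    · exact OTree.mem_keys_of_mem h0
    · obtain ⟨p, g, d, hn⟩ := OTree.mem_keys_iff.1 hk
      exact OTree.mem_keys_of_mem (OTree.of_allNodes (List.all_eq_true.1 h2 s hs) hn)

theorem StabCert.mem_dec_image {c c₁ : List Lvl} {g₁ g₂ : List Gen} (S : StabCert C c c₁ g₁ g₂ x0 t)
    (y : α) : y ∈ C.dec '' {k | k ∈ t.keys} ↔ ∃ σ ∈ gpGrp c, σ • C.dec x0 = y :=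
  (orbit_iff C S.gensFor S.orb y).symm

end Cfsg.Agent.Lib.GolayOrbit
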