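import Cfsg.Agent.Lib.Golay.Octads
import Cfsg.Agent.Lib.Golay.Suborbit
import Cfsg.Agent.Lib.Golay.OctPtSub
import Cfsg.Agent.Lib.Golay.OctOutSub
import Cfsg.Agent.Lib.Golay.OctPtOutSub
import Cfsg.Agent.Lib.Golay.OctPtPtSub
import Cfsg.Agent.Lib.Golay.DodPtSub

/-!
# An octad or a dodecad together with one or two points
-/

set_option autoImplicit false

namespace Cfsg.Agent.Lib.GolayOrbit

open Cfsg Cfsg.Agent.Lib.Compute Equiv
open scoped Pointwise

theorem dec_mem_setOf24 {i m : ℕ} (hi : i < 24) :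
    pointCoding.dec i ∈ setOf24 m ↔ m.testBit i = true := by
  show enc.symm (Fin.ofNat 24 i) ∈ setOf24 m ↔ _
  rw [mem_setOf24, Equiv.apply_symm_apply]
  simp [Fin.ofNat, Nat.mod_eq_of_lt hi]

theorem exists_pt_code (y : GolayPt) : ∃ i, i < 24 ∧ pointCoding.dec i = y :=
  ⟨(enc y).val, (enc y).isLt, by
    show enc.symm (Fin.ofNat 24 (enc y).val) = y
    simp⟩

/-- Move a point of a prescribed kind to the base point of a certified orbit. -/
theorem exists_pt_to_base {c c' : List Lvl} {gens gens' : List Gen} {x0 : ℕ} {t : OTree}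
    (S : StabCert pointCoding c c' gens gens' x0 t) (q : ℕ → Bool)
    (hcov : (List.range 24).all (fun i => !q i || t.mem i) = true) {y : GolayPt}
    (hy : ∀ i, i < 24 → pointCoding.dec i = y → q i = true) :
    ∃ σ ∈ gpGrp c, σ y = pointCoding.dec x0 := by
  obtain ⟨i, hi, rfl⟩ := exists_pt_code y
  have h := List.all_eq_true.1 hcov i (List.mem_range.2 hi)
  rw [hy i hi rfl] at h
  exact S.exists_to_base (OTree.mem_keys_of_mem (by simpa using h))

theorem mem_octPtCert {σ : Perm GolayPt} : σ ∈ gpGrp octPtCert ↔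
    σ ∈ M24 ∧ σ • baseOctad = baseOctad ∧ σ (pointCoding.dec octIn0) = pointCoding.dec octIn0 := by
  rw [octPtCert_stab.stab_iff, mem_octCert, and_assoc]
  rfl

theorem mem_octOutCert {σ : Perm GolayPt} : σ ∈ gpGrp octOutCert ↔
    σ ∈ M24 ∧ σ • baseOctad = baseOctad ∧ σ (pointCoding.dec octOut0) = pointCoding.dec octOut0 := by
  rw [octOutCert_stab.stab_iff, mem_octCert, and_assoc]
  rfl

theorem mem_octPtOutCert {σ : Perm GolayPt} : σ ∈ gpGrp octPtOutCert ↔
    σ ∈ M24 ∧ σ • baseOctad = baseOctad ∧ σ (pointCoding.dec octIn0) = pointCoding.dec octIn0 ∧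
      σ (pointCoding.dec octInOut0) = pointCoding.dec octInOut0 := by
  rw [octPtOutCert_stab.stab_iff, mem_octPtCert]
  simp only [and_assoc]
  rfl

theorem mem_octPtPtCert {σ : Perm GolayPt} : σ ∈ gpGrp octPtPtCert ↔
    σ ∈ M24 ∧ σ • baseOctad = baseOctad ∧ σ (pointCoding.dec octIn0) = pointCoding.dec octIn0 ∧
      σ (pointCoding.dec octInIn0) = pointCoding.dec octInIn0 := by
  rw [octPtPtCert_stab.stab_iff, mem_octPtCert]
  simp only [and_assoc]
  rfl

theorem mem_dodPtCert {σ : Perm GolayPt} : σ ∈ gpGrp dodPtCert ↔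
    σ ∈ M24 ∧ σ • baseDodecad = baseDodecad ∧ σ (pointCoding.dec dodIn0) = pointCoding.dec dodIn0 := by
  rw [dodPtCert_stab.stab_iff, mem_dodCert, and_assoc]
  rfl

theorem exists_to_octPt {o : Finset GolayPt} (ho : o ∈ octads) {x : GolayPt} (hx : x ∈ o) :
    ∃ g ∈ M24, g • o = baseOctad ∧ g x = pointCoding.dec octIn0 := by
  obtain ⟨g, hg, he⟩ := exists_to_baseOctad ho
  obtain ⟨σ, hσ, hσx⟩ := exists_pt_to_base octPtCert_stab (fun i => oct0.testBit i)
    (by decide +kernel) (y := g x) (fun i hi hy => by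
      show oct0.testBit i = true
      rw [← dec_mem_setOf24 hi, hy, show setOf24 oct0 = g • o from he.symm, smul_mem_smul_pt]
      exact hx)
  obtain ⟨hM, hfix⟩ := mem_octCert.1 hσ
  exact ⟨σ * g, mul_mem hM hg, by rw [mul_smul, he, hfix], by rw [Perm.mul_apply, hσx]⟩

theorem exists_to_octOut {o : Finset GolayPt} (ho : o ∈ octads) {x : GolayPt} (hx : x ∉ o) :
    ∃ g ∈ M24, g • o = baseOctad ∧ g x = pointCoding.dec octOut0 := by
  obtain ⟨g, hg, he⟩ := exists_to_baseOctad ho
  obtain ⟨σ, hσ, hσx⟩ := exists_pt_to_base octOutCert_stab (fun i => !oct0.testBit i)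
    (by decide +kernel) (y := g x) (fun i hi hy => by
      show (!oct0.testBit i) = true
      rw [Bool.not_eq_true', ← Bool.not_eq_true, ← dec_mem_setOf24 hi, hy,
        show setOf24 oct0 = g • o from he.symm, smul_mem_smul_pt]
      exact hx)
  obtain ⟨hM, hfix⟩ := mem_octCert.1 hσ
  exact ⟨σ * g, mul_mem hM hg, by rw [mul_smul, he, hfix], by rw [Perm.mul_apply, hσx]⟩

theorem exists_to_octPtOut {o : Finset GolayPt} (ho : o ∈ octads) {p q : GolayPt} (hp : p ∈ o)
    (hq : q ∉ o) : ∃ g ∈ M24, g • o = baseOctad ∧ g p = pointCoding.dec octIn0 ∧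
      g q = pointCoding.dec octInOut0 := by
  obtain ⟨g, hg, he, hgp⟩ := exists_to_octPt ho hp
  obtain ⟨σ, hσ, hσx⟩ := exists_pt_to_base octPtOutCert_stab (fun i => !oct0.testBit i)
    (by decide +kernel) (y := g q) (fun i hi hy => by
      show (!oct0.testBit i) = true
      rw [Bool.not_eq_true', ← Bool.not_eq_true, ← dec_mem_setOf24 hi, hy,
        show setOf24 oct0 = g • o from he.symm, smul_mem_smul_pt]
      exact hq)
  obtain ⟨hM, hfix, hfixp⟩ := mem_octPtCert.1 hσ
  exact ⟨σ * g, mul_mem hM hg, by rw [mul_smul, he, hfix], by rw [Perm.mul_apply, hgp, hfixp],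
    by rw [Perm.mul_apply, hσx]⟩

theorem exists_to_octPtPt {o : Finset GolayPt} (ho : o ∈ octads) {p q : GolayPt} (hp : p ∈ o)
    (hq : q ∈ o) (hpq : p ≠ q) : ∃ g ∈ M24, g • o = baseOctad ∧ g p = pointCoding.dec octIn0 ∧
      g q = pointCoding.dec octInIn0 := by
  obtain ⟨g, hg, he, hgp⟩ := exists_to_octPt ho hp
  obtain ⟨σ, hσ, hσx⟩ := exists_pt_to_base octPtPtCert_stab
    (fun i => oct0.testBit i && !Nat.beq i octIn0)
    (by decide +kernel) (y := g q) (fun i hi hy => by
      show (oct0.testBit i && !Nat.beq i octIn0) = true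
      rw [Bool.and_eq_true]
      refine ⟨?_, ?_⟩
      · rw [← dec_mem_setOf24 hi, hy, show setOf24 oct0 = g • o from he.symm, smul_mem_smul_pt]
        exact hq
      · rw [Bool.not_eq_true', ← Bool.not_eq_true]
        intro h
        rw [Nat.eq_of_beq_eq_true h, ← hgp] at hy
        exact hpq (g.injective hy))
  obtain ⟨hM, hfix, hfixp⟩ := mem_octPtCert.1 hσ
  exact ⟨σ * g, mul_mem hM hg, by rw [mul_smul, he, hfix], by rw [Perm.mul_apply, hgp, hfixp],
    by rw [Perm.mul_apply, hσx]⟩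

theorem exists_to_dodPt {d : Finset GolayPt} (hd : d ∈ dodecads) {x : GolayPt} (hx : x ∈ d) :
    ∃ g ∈ M24, g • d = baseDodecad ∧ g x = pointCoding.dec dodIn0 := by
  obtain ⟨g, hg, he⟩ := exists_to_baseDodecad hd
  obtain ⟨σ, hσ, hσx⟩ := exists_pt_to_base dodPtCert_stab (fun i => dod0.testBit i)
    (by decide +kernel) (y := g x) (fun i hi hy => by
      show dod0.testBit i = true
      rw [← dec_mem_setOf24 hi, hy, show setOf24 dod0 = g • d from he.symm, smul_mem_smul_pt]
      exact hx)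
  obtain ⟨hM, hfix⟩ := mem_dodCert.1 hσ
  exact ⟨σ * g, mul_mem hM hg, by rw [mul_smul, he, hfix], by rw [Perm.mul_apply, hσx]⟩

/-- Octads in one labelled class are related by the certified group. -/
theorem octad_class_rel {c : List Lvl} {gens : List Gen} (hG : GensFor c gens)
    {parts : List (OTree × ℕ × ℕ)} {q : ℕ → Bool} (ho : partsOk maskCoding gens parts = true)
    (hc : partOk (fun k => popN (k &&& oct0)) parts (octadList.filter q) = true)
    (hd : (parts.map fun e => e.2.2).Nodup) {a b : Finset GolayPt} (ha : a ∈ octads) (hb : b ∈ octads)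
    (hqa : ∀ m ∈ octadList, setOf24 m = a → q m = true)
    (hqb : ∀ m ∈ octadList, setOf24 m = b → q m = true)
    (hab : (baseOctad ∩ a).card = (baseOctad ∩ b).card) : ∃ σ ∈ gpGrp c, σ • a = b := by
  obtain ⟨m, hm, rfl⟩ := exists_octad_mask ha
  obtain ⟨n, hn, rfl⟩ := exists_octad_mask hb
  rw [Finset.inter_comm, baseOctad, card_setOf24_and, Finset.inter_comm, card_setOf24_and] at hab
  exact rel_of_partition maskCoding hG ho hc hd (List.mem_filter.2 ⟨hm, hqa m hm rfl⟩)
    (List.mem_filter.2 ⟨hn, hqb n hn rfl⟩) hab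

/-- Dodecads in one labelled class are related by the certified group. -/
theorem dodecad_class_rel {c : List Lvl} {gens : List Gen} (hG : GensFor c gens)
    {parts : List (OTree × ℕ × ℕ)} {q : ℕ → Bool} (ho : partsOk maskCoding gens parts = true)
    (hc : partOk (fun k => popN (k &&& dod0)) parts (dodecadList.filter q) = true)
    (hd : (parts.map fun e => e.2.2).Nodup) {a b : Finset GolayPt} (ha : a ∈ dodecads)
    (hb : b ∈ dodecads)
    (hqa : ∀ m ∈ dodecadList, setOf24 m = a → q m = true)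
    (hqb : ∀ m ∈ dodecadList, setOf24 m = b → q m = true)
    (hab : (baseDodecad ∩ a).card = (baseDodecad ∩ b).card) : ∃ σ ∈ gpGrp c, σ • a = b := by
  obtain ⟨m, hm, rfl⟩ := exists_dodecad_mask ha
  obtain ⟨n, hn, rfl⟩ := exists_dodecad_mask hb
  rw [Finset.inter_comm, baseDodecad, card_setOf24_and, Finset.inter_comm, card_setOf24_and] at hab
  exact rel_of_partition maskCoding hG ho hc hd (List.mem_filter.2 ⟨hm, hqa m hm rfl⟩)
    (List.mem_filter.2 ⟨hn, hqb n hn rfl⟩) hab

end Cfsg.Agent.Lib.GolayOrbit
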