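import Cfsg.Agent.Lib.Golay.Orbit

/-!
# Generators of M24 with tables
-/

set_option autoImplicit false

namespace Cfsg.Agent.Lib.GolayOrbit

open Cfsg Cfsg.Agent.Lib.Compute
open scoped Pointwise

/-- generators of `m24Cert` with tables -/
def m24Gens : List Gen := [(0x1700000016001500140013001200110010000f000e000d000c000b000a000900080007000600050004000300020001, 0xe00001c00001a00001800001e00000c00000a000008000006000014000012000010000016000004000002000000000001e00001c00001a00001800001600001400001200001000000e00000c00000a000008000006000004000002000000000001e00001c00001a00001800001600001400001200001000000e00000c00000a000008000006000004000002000000000001e00001c00001a00001800001600001400001200001000000e00000c00000a000008000006000004000002000000000001e00001c00001a00001800001600001400001200001000000e00000c00000a000008000006000004000002000000000001e00001c00001a00001800001600001400001200001000000e00000c00000a000008000006000004000002000000), (0x1000c00080006000e0004000a00030012000700150002001000050014000d001300090011000f000b00160017, 0x11030010030001030000030011010010010001010000010011020010020001020000020011000010000001000000000044500040500044400040400004500000500004400000400044100040100044000040000004100000100004000000002400880400882400080400082000880000882000080000082400800400802400000400002000800000802000000000001100240100241100040100041000240000241000040000041100200100201100000100001000200000201000000000000a22000822000a20000820000222000022000220000020000a02000802000a0000080000020200000200020000000000c08800408800808800008800c08000408000808000008000c00800400800800800000800c00000400000800000000000),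 (0x17000e0014000a00160004000b000d000f00110009000800130007000c001000050001001500020003000600120000, 0x904400904000804400804000900400900000800400800000104400104000004400004000100400100000000400000000402810400810402010400010402800400800402000400000002810000810002010000010002800000800002000000000028300028200028100028000008300008200008100008000020300020200020100020000000300000200000100000000091080081080090080080080091000081000090000080000011080001080010080000080011000001000010000000000200026200022000026000022200024200020000024000020200006200002000006000002200004200000000004000000040049040048000049000048040009040008000009000008040041040040000041000040040001040000000001000000)]

theorem m24Gens_gensFor : GensFor m24Cert m24Gens :=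
  gensFor_of_genGood (wit := [[1], [23,20,10,13,13,1,13], [0,1]]) (steps := m24ThreeGensSteps)
    m24Cert_ok (by decide +kernel)

end Cfsg.Agent.Lib.GolayOrbit
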