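import Cfsg.Agent.Lib.Golay.Octads
import Cfsg.Agent.Lib.Golay.SextetData

/-!
# The sextets form one orbit
-/

set_option autoImplicit false

namespace Cfsg.Agent.Lib.GolayOrbit

open Cfsg Cfsg.Agent.Lib.Compute Equiv
open scoped Pointwise

/-- The base sextet. -/
def baseSextet : Finset (Finset GolayPt) := (familyCoding 6).dec sex0

theorem sex0_good : (familyCoding 6).good sex0 = true := by decide +kernel

theorem baseSextet_mem : baseSextet ∈ sextets := by
  have h4 : (unpack 6 sex0).all (fun m => popN m == 4) = true := by decide +kernel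
  have hp : (unpack 6 sex0).all (fun a => (unpack 6 sex0).all fun b =>
      a == b || octadList.contains (a ||| b)) = true := by decide +kernel
  simp only [List.all_eq_true, Bool.or_eq_true, beq_iff_eq, List.contains_iff_mem] at h4 hp
  refine ⟨card_family sex0_good, fun t ht => ?_, fun t ht u hu hne => ?_⟩
  · obtain ⟨m, hm, rfl⟩ := mem_family.1 ht
    rw [card_setOf24, ← popN_eq, h4 m hm]
  · obtain ⟨m, hm, rfl⟩ := mem_family.1 ht
    obtain ⟨n, hn, rfl⟩ := mem_family.1 hu
    rw [← setOf24_or]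
    exact mem_octads_of_mask ((hp m hm n hn).resolve_left fun e => hne (by rw [e]))

theorem smul_mem_sextets {g : Perm GolayPt} (hg : g ∈ M24) {S : Finset (Finset GolayPt)}
    (hS : S ∈ sextets) : g • S ∈ sextets := by
  obtain ⟨h6, h4, hp⟩ := hS
  refine ⟨by rw [Finset.card_smul_finset, h6], fun t ht => ?_, fun t ht u hu hne => ?_⟩
  · obtain ⟨a, ha, rfl⟩ := Finset.mem_smul_finset.1 ht
    rw [Finset.card_smul_finset, h4 a ha]
  · obtain ⟨a, ha, rfl⟩ := Finset.mem_smul_finset.1 ht
    obtain ⟨b, hb, rfl⟩ := Finset.mem_smul_finset.1 hu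
    rw [← Finset.smul_finset_union]
    exact smul_mem_octads hg (hp a ha b hb fun e => hne (by rw [e]))

theorem mem_sextets_smul_iff {g : Perm GolayPt} (hg : g ∈ M24) (S : Finset (Finset GolayPt)) :
    g • S ∈ sextets ↔ S ∈ sextets :=
  ⟨fun h => inv_smul_smul g S ▸ smul_mem_sextets (inv_mem hg) h, smul_mem_sextets hg⟩

theorem sextet_eq_base {S : Finset (Finset GolayPt)} (hS : S ∈ sextets) (h : setOf24 15 ∈ S) :
    S = baseSextet := by
  have key : octadList.all (fun m => !(m &&& 15 == 15) || (unpack 6 sex0).contains (m ^^^ 15)) = true := by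
    decide +kernel
  have h15 : 15 ∈ unpack 6 sex0 := by decide +kernel
  simp only [List.all_eq_true, Bool.or_eq_true, Bool.not_eq_true', beq_eq_false_iff_ne,
    List.contains_iff_mem] at key
  refine Finset.eq_of_subset_of_card_le (fun t ht => ?_)
    (by rw [hS.1, baseSextet, card_family sex0_good])
  by_cases he : t = setOf24 15
  · exact mem_family.2 ⟨15, h15, he.symm⟩
  obtain ⟨m, hm, hme⟩ := exists_octad_mask (hS.2.2 t ht _ h he)
  have hd : Disjoint t (setOf24 15) := by
    rw [← Finset.card_union_eq_card_add_card, ← hme, hS.2.1 t ht, hS.2.1 _ h, card_setOf24,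
      ← popN_eq]
    have := List.all_eq_true.1 (show octadList.all (fun m => popN m == 8) = true by decide +kernel) m hm
    simpa using this
  have hsub : setOf24 15 ⊆ setOf24 m := by rw [hme]; exact Finset.subset_union_right
  have hand : m &&& 15 = 15 := by
    have := (setOf24_subset (by norm_num)).1 hsub
    rwa [Nat.and_comm]
  refine mem_family.2 ⟨m ^^^ 15, (key m hm).resolve_left fun hh => hh hand, ?_⟩
  ext p
  have hm' : p ∈ setOf24 m ↔ p ∈ t ∨ p ∈ setOf24 15 := by rw [hme, Finset.mem_union]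
  have hd' : p ∈ t → p ∉ setOf24 15 := fun hp => Finset.disjoint_left.1 hd hp
  rw [mem_setOf24, mem_setOf24] at *
  rw [Nat.testBit_xor]
  revert hm' hd'
  cases m.testBit (enc p).val <;> cases (15 : ℕ).testBit (enc p).val <;> simp <;> tauto

theorem tetrad15_card : (setOf24 15).card = 4 := by rw [card_setOf24]; decide

theorem exists_to_baseSextet {S : Finset (Finset GolayPt)} (hS : S ∈ sextets) :
    ∃ g ∈ M24, g • S = baseSextet := by
  obtain ⟨t, ht⟩ := Finset.card_pos.1 (by rw [hS.1]; norm_num : 0 < S.card)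
  obtain ⟨g, hg, he⟩ := exists_smul_small (t := setOf24 15) (by rw [hS.2.1 t ht, tetrad15_card])
    (by rw [hS.2.1 t ht]; norm_num)
  exact ⟨g, hg, sextet_eq_base (smul_mem_sextets hg hS) (he ▸ Finset.smul_mem_smul_finset ht)⟩

theorem sextet_existsUnique (t : Finset GolayPt) (ht : t.card = 4) :
    ∃! S : Finset (Finset GolayPt), S ∈ sextets ∧ t ∈ S := by
  obtain ⟨g, hg, he⟩ := exists_smul_small (t := setOf24 15) (by rw [ht, tetrad15_card])
    (by rw [ht]; norm_num)
  have h15 : setOf24 15 ∈ baseSextet := mem_family.2 ⟨15, by decide +kernel, rfl⟩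
  refine ⟨g⁻¹ • baseSextet, ⟨smul_mem_sextets (inv_mem hg) baseSextet_mem, ?_⟩, fun S ⟨hS, hts⟩ => ?_⟩
  · rw [eq_inv_smul_iff.2 he]
    exact Finset.smul_mem_smul_finset h15
  · rw [eq_inv_smul_iff]
    exact sextet_eq_base (smul_mem_sextets hg hS) (he ▸ Finset.smul_mem_smul_finset hts)

theorem mem_sexCert {σ : Perm GolayPt} :
    σ ∈ gpGrp sexCert ↔ σ ∈ M24 ∧ σ • baseSextet = baseSextet := by
  rw [← mem_gpGrp_m24]
  exact sexCert_stab.stab_iff σ

theorem sextets_eq_orbit : sextets = {S | ∃ g ∈ gpGrp m24Cert, g • baseSextet = S} := by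
  ext S
  constructor
  · intro hS
    obtain ⟨g, hg, he⟩ := exists_to_baseSextet hS
    exact ⟨g⁻¹, mem_gpGrp_m24.2 (inv_mem hg), (eq_inv_smul_iff.2 he).symm⟩
  · rintro ⟨g, hg, rfl⟩
    exact smul_mem_sextets (mem_gpGrp_m24.1 hg) baseSextet_mem

theorem sextets_ncard : sextets.ncard = 1771 := by
  rw [sextets_eq_orbit, baseSextet, orbit_ncard (familyCoding 6) m24Gens_gensFor sexCert_stab.orb
    sexCert_stab.keys_incr, sexTree_length]

theorem exists_sextet_key {S : Finset (Finset GolayPt)} (hS : S ∈ sextets) :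
    ∃ k ∈ sexTree.keys, (familyCoding 6).dec k = S := by
  rw [sextets_eq_orbit] at hS
  exact (orbit_iff _ m24Gens_gensFor sexCert_stab.orb S).1 hS

end Cfsg.Agent.Lib.GolayOrbit
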