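import Cfsg.Agent.Lib.Golay.Suborbit
import Cfsg.Agent.Lib.Golay.PairSub
import Cfsg.Agent.Lib.Golay.TriadSub
import Cfsg.Agent.Lib.Golay.PointPairSub

/-!
# Pairs, triads, and pairs relative to two further points
-/

set_option autoImplicit false

namespace Cfsg.Agent.Lib.GolayOrbit

open Cfsg Cfsg.Agent.Lib.Compute Equiv
open scoped Pointwise

theorem exists_small_key {c' : List Lvl} {gens gens' : List Gen} {x0 : ℕ} {t : OTree}
    (S : StabCert maskCoding m24Cert c' gens gens' x0 t) {s : Finset GolayPt}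
    (h : s.card = (setOf24 x0).card) (h5 : s.card ≤ 5) : ∃ k ∈ t.keys, setOf24 k = s := by
  obtain ⟨g, hg, he⟩ := exists_smul_small h h5
  refine (orbit_iff maskCoding S.gensFor S.orb s).1 ⟨g⁻¹, mem_gpGrp_m24.2 (inv_mem hg), ?_⟩
  show g⁻¹ • setOf24 x0 = s
  rw [← he, inv_smul_smul]

theorem card_of_key {c' : List Lvl} {gens gens' : List Gen} {x0 : ℕ} {t : OTree}
    (S : StabCert maskCoding m24Cert c' gens gens' x0 t) {k : ℕ} (hk : k ∈ t.keys) :
    (setOf24 k).card = (setOf24 x0).card := by
  obtain ⟨g, -, he⟩ := (orbit_iff maskCoding S.gensFor S.orb _).2 ⟨k, hk, rfl⟩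
  show (maskCoding.dec k).card = _
  rw [← he, Finset.card_smul_finset]
  rfl

theorem lt_of_tree_key {c : List Lvl} {gens : List Gen} (hG : GensFor c gens) {x0 : ℕ} {t : OTree}
    (ho : orbOk maskCoding.img maskCoding.good gens x0 t = true) {k : ℕ} (hk : k ∈ t.keys) :
    k < 2 ^ 24 :=
  Nat.blt_eq.mp (good_keys maskCoding hG ho hk)

theorem card_setOf24_three : (setOf24 triad0).card = 3 := by rw [card_setOf24]; decide +kernel

theorem card_setOf24_two : (setOf24 pair0).card = 2 := by rw [card_setOf24]; decide +kernel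

theorem ncard_dec_mask {c : List Lvl} {gens : List Gen} (hG : GensFor c gens) {x0 : ℕ} {t : OTree}
    (ho : orbOk maskCoding.img maskCoding.good gens x0 t = true) (hi : incr t.keys = true) :
    (setOf24 '' {k | k ∈ t.keys}).ncard = t.keys.length := by
  rw [Set.InjOn.ncard_image, ← List.coe_toFinset, Set.ncard_coe_finset,
    List.toFinset_card_of_nodup (nodup_of_incr hi)]
  exact fun a ha b hb e => setOf24_injOn (lt_of_tree_key hG ho ha) (lt_of_tree_key hG ho hb) e

/-- The 21 octads through the base triad. -/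
def triadOctads : List ℕ := [5279, 45159, 140167, 459847, 551943, 622863, 786999, 1065303, 1116327,
  2183687, 2263063, 3416079, 4196943, 4505735, 5902343, 6292775, 8536111, 8657159, 9471495, 11010247,
  12656663]

/-- The five octads through the base tetrad. -/
def tetradOctads : List ℕ := [5279, 622863, 3416079, 4196943, 8536111]

theorem triadOctads_eq : octadList.filter (fun m => m &&& 7 == 7) = triadOctads := by decide +kernel

theorem tetradOctads_eq : octadList.filter (fun m => m &&& 15 == 15) = tetradOctads := by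
  decide +kernel

theorem exists_octad_superset {a k : ℕ} {L : List ℕ}
    (hL : octadList.filter (fun m => m &&& a == a) = L) (ha : a < 2 ^ 24) (hk : k < 2 ^ 24) :
    (∃ o ∈ octads, setOf24 a ∪ setOf24 k ⊆ o) ↔ L.any (fun m => m &&& k == k) = true := by
  simp only [List.any_eq_true, ← hL, List.mem_filter, beq_iff_eq]
  constructor
  · rintro ⟨o, ho, hs⟩
    obtain ⟨m, hm, rfl⟩ := exists_octad_mask ho
    obtain ⟨h1, h2⟩ := Finset.union_subset_iff.1 hs
    rw [setOf24_subset ha] at h1
    rw [setOf24_subset hk] at h2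
    exact ⟨m, ⟨hm, by rwa [Nat.and_comm]⟩, by rwa [Nat.and_comm]⟩
  · rintro ⟨m, ⟨hm, h1⟩, h2⟩
    refine ⟨_, mem_octads_of_mask hm, Finset.union_subset ?_ ?_⟩
    · rw [setOf24_subset ha, Nat.and_comm]; exact h1
    · rw [setOf24_subset hk, Nat.and_comm]; exact h2

theorem triad_classes : triadTree.allNodes (fun k _ _ _ => !(k &&& 7 == 0) ||
      (if triadOctads.any (fun m => m &&& k == k) then triadOrb2.mem k else triadOrb4.mem k)) = true := by
  decide +kernel

theorem triad_classes_sub : (triadOrb2.allNodes (fun k _ _ _ => triadTree.mem k && k &&& 7 == 0 &&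
      triadOctads.any (fun m => m &&& k == k)) && triadOrb4.allNodes (fun k _ _ _ => triadTree.mem k &&
      k &&& 7 == 0 && !triadOctads.any (fun m => m &&& k == k))) = true := by
  decide +kernel

/-- Being a triad in a common octad with the base triad, and the converse. -/
theorem triad_set_eq (b : Bool) :
    {U : Finset GolayPt | U.card = 3 ∧ Disjoint (setOf24 triad0) U ∧
      ((∃ o ∈ octads, setOf24 triad0 ∪ U ⊆ o) ↔ b = true)} =
    setOf24 '' {k | k ∈ (if b then triadOrb2 else triadOrb4).keys} := by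
  ext U
  constructor
  · rintro ⟨h3, hd, hb⟩
    obtain ⟨k, hk, rfl⟩ := exists_small_key triadCert_stab (by rw [h3, card_setOf24_three]) (by omega)
    have hlt := lt_of_tree_key m24Gens_gensFor triadCert_stab.orb hk
    obtain ⟨p, g, d, hn⟩ := OTree.mem_keys_iff.1 hk
    have := OTree.of_allNodes triad_classes hn
    have h0 : triad0 &&& k = 0 := (disjoint_setOf24 (by decide +kernel)).1 hd
    have h7 : (k &&& 7 == 0) = true := by rw [beq_iff_eq, Nat.and_comm]; exact h0
    rw [show triad0 = 7 from rfl, exists_octad_superset triadOctads_eq (by norm_num) hlt] at hb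
    rw [h7] at this
    refine ⟨k, ?_, rfl⟩
    cases b <;> simp_all [OTree.mem_keys_of_mem]
  · rintro ⟨k, hk, rfl⟩
    have hboth := triad_classes_sub
    simp only [Bool.and_eq_true] at hboth
    obtain ⟨p, g, d, hn⟩ := OTree.mem_keys_iff.1 hk
    have hfact : triadTree.mem k = true ∧ k &&& 7 = 0 ∧
        (triadOctads.any (fun m => m &&& k == k) = true ↔ b = true) := by
      cases b
      · have := OTree.of_allNodes hboth.2 hn
        simp only [Bool.and_eq_true, Bool.not_eq_true', beq_iff_eq] at this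
        exact ⟨this.1.1, this.1.2, by simp [this.2]⟩
      · have := OTree.of_allNodes hboth.1 hn
        simp only [Bool.and_eq_true, beq_iff_eq] at this
        exact ⟨this.1.1, this.1.2, by simp [this.2]⟩
    obtain ⟨h1, h2, h3⟩ := hfact
    have hlt := lt_of_tree_key m24Gens_gensFor triadCert_stab.orb (OTree.mem_keys_of_mem h1)
    refine ⟨by rw [card_of_key triadCert_stab (OTree.mem_keys_of_mem h1), card_setOf24_three],
      (disjoint_setOf24 (by decide +kernel)).2 (by rw [Nat.and_comm]; exact h2), ?_⟩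
    rw [show triad0 = 7 from rfl, exists_octad_superset triadOctads_eq (by norm_num) hlt]
    exact h3

/-- Move two points and a pair to the base configuration. -/
theorem exists_to_pointPair {p q : GolayPt} (hpq : p ≠ q) {s : Finset GolayPt} (hs : s.card = 2)
    (hp : p ∉ s) (hq : q ∉ s) : ∃ g ∈ M24, g p = pointCoding.dec pt0 ∧ g q = pointCoding.dec pt1 ∧
      g • s = setOf24 ptPair0 := by
  obtain ⟨a, b, hab, rfl⟩ := Finset.card_eq_two.1 hs
  simp only [Finset.mem_insert, Finset.mem_singleton, not_or] at hp hq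
  obtain ⟨x, hx⟩ := exists_tuple [p, q, a, b] (by simp [hpq, hp.1, hp.2, hq.1, hq.2, hab]) (by simp)
  obtain ⟨y, hy⟩ := exists_tuple [enc.symm 0, enc.symm 1, enc.symm 2, enc.symm 3]
    (by simp [enc.symm.injective.eq_iff]) (by simp)
  obtain ⟨g, hg⟩ := MulAction.isMultiplyPretransitive_iff.mp M24_multiplyPretransitive x y
  have hj : ∀ (j : ℕ) (hj : j < 4), (g : Perm GolayPt) ([p, q, a, b][j]) =
      [enc.symm 0, enc.symm 1, enc.symm 2, enc.symm 3][j] := fun j hj => by
    have h1 := DFunLike.congr_fun hg ⟨j, by omega⟩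
    rw [Function.Embedding.smul_apply, hx j (by simpa using hj), hy j (by simpa using hj)] at h1
    exact h1
  refine ⟨g, g.2, hj 0 (by norm_num), hj 1 (by norm_num), ?_⟩
  have h2 : setOf24 (1 <<< (2 : Fin 24).val ||| 1 <<< (3 : Fin 24).val) = {enc.symm 2, enc.symm 3} := by
    rw [setOf24_or, setOf24_singleton, setOf24_singleton]
    rfl
  have e2 : (g : Perm GolayPt) a = enc.symm 2 := hj 2 (by norm_num)
  have e3 : (g : Perm GolayPt) b = enc.symm 3 := hj 3 (by norm_num)
  rw [show ptPair0 = (1 <<< (2 : Fin 24).val ||| 1 <<< (3 : Fin 24).val) from by decide +kernel, h2,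
    ← e2, ← e3]
  ext x
  simp [Finset.mem_smul_finset, eq_comm]

theorem mem_pointPairCert {σ : Perm GolayPt} :
    σ ∈ gpGrp pointPairCert ↔ σ ∈ M24 ∧ σ (pointCoding.dec pt0) = pointCoding.dec pt0 ∧
      σ (pointCoding.dec pt1) = pointCoding.dec pt1 ∧ σ • setOf24 ptPair0 = setOf24 ptPair0 := by
  rw [pointPairCert_stab.stab_iff, point2Cert_stab.stab_iff, pointCert_stab.mem_M24_iff']
  simp only [Perm.smul_def, and_assoc]
  rfl

end Cfsg.Agent.Lib.GolayOrbit
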