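import Cfsg.Agent.Lib.Golay.Basic
import Cfsg.Agent.Lib.M24Geom.SymSix

/-!
# Stabilisers inside the code's group as certified groups; certified elementary abelian subgroups
-/

set_option autoImplicit false

namespace Cfsg.Agent.Lib.GolayOrbit

open Cfsg Cfsg.Agent.Lib.Compute Equiv
open scoped Pointwise

/-- A stabiliser is carried to a certified group by conjugation. -/
theorem exists_stab_iso {α : Type} [MulAction (Perm GolayPt) α] {c : List Lvl} {x x0 : α}
    {g : Perm GolayPt} (hg : g ∈ M24) (hx : g • x = x0)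
    (hc : ∀ σ, σ ∈ gpGrp c ↔ σ ∈ M24 ∧ σ • x0 = x0) :
    ∃ f : ↥(MulAction.stabilizer M24 x) ≃* ↥(gpGrp c),
      ∀ a, (f a : Perm GolayPt) = g * ((a : M24) : Perm GolayPt) * g⁻¹ := by
  have h1 : ∀ a : MulAction.stabilizer M24 x, g * ((a : M24) : Perm GolayPt) * g⁻¹ ∈ gpGrp c := by
    intro a
    refine (hc _).2 ⟨mul_mem (mul_mem hg (a : M24).2) (inv_mem hg), ?_⟩
    rw [← hx, mul_smul, inv_smul_smul, mul_smul]
    exact congrArg (g • ·) a.2
  have h2 : ∀ τ : gpGrp c, ∃ a : MulAction.stabilizer M24 x,
      ((a : M24) : Perm GolayPt) = g⁻¹ * τ * g := by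
    intro τ
    obtain ⟨hM, hs⟩ := (hc _).1 τ.2
    refine ⟨⟨⟨_, mul_mem (mul_mem (inv_mem hg) hM) hg⟩, ?_⟩, rfl⟩
    show (g⁻¹ * (τ : Perm GolayPt) * g) • x = x
    rw [mul_smul, mul_smul, hx, hs, inv_smul_eq_iff, hx]
  let φ : ↥(MulAction.stabilizer M24 x) →* ↥(gpGrp c) := MonoidHom.mk' (fun a => ⟨_, h1 a⟩)
    fun a b => Subtype.ext (show g * (((a : M24) : Perm GolayPt) * ((b : M24) : Perm GolayPt)) * g⁻¹ =
      (g * ((a : M24) : Perm GolayPt) * g⁻¹) * (g * ((b : M24) : Perm GolayPt) * g⁻¹) by group)
  refine ⟨MulEquiv.ofBijective φ ⟨fun a b h => ?_, fun τ => ?_⟩, fun a => rfl⟩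
  · have h' : g * ((a : M24) : Perm GolayPt) * g⁻¹ = g * ((b : M24) : Perm GolayPt) * g⁻¹ :=
      congrArg Subtype.val h
    exact Subtype.ext (Subtype.ext (mul_left_cancel (mul_right_cancel h')))
  · obtain ⟨a, ha⟩ := h2 τ
    refine ⟨a, Subtype.ext ?_⟩
    show g * ((a : M24) : Perm GolayPt) * g⁻¹ = τ
    rw [ha]; group

/-- The generators of the first level commute and square to one. -/
def elemAbelOk : List Lvl → Bool
  | [] => true
  | L :: _ => L.gens.all fun a => (List.range 24).all (fun i => app a.1 (app a.1 i) == i) &&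
      L.gens.all fun b => (List.range 24).all fun i => app a.1 (app b.1 i) == app b.1 (app a.1 i)

theorem mul_self_eq_one_of_elemAbelOk {cN : List Lvl} (hN : chk 24 cN = true)
    (hA : elemAbelOk cN = true) {σ : Perm GolayPt} (hσ : σ ∈ gpGrp cN) : σ * σ = 1 := by
  obtain ⟨τ, hτ, rfl⟩ := mem_gpGrp.1 hσ
  rw [← map_mul, ← map_one toGP]
  congr 1
  cases cN with
  | nil => simp [grp] at hτ; simp [hτ]
  | cons L rest =>
    simp only [chk, Bool.and_eq_true] at hN
    obtain ⟨-, hok, -⟩ := lvlOk_iff hN.1
    simp only [elemAbelOk, List.all_eq_true, Bool.and_eq_true, List.mem_range, beq_iff_eq] at hA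
    set S := (fun g : ℕ × ℕ => toPerm 24 g.1) '' {g | g ∈ L.gens}
    have hcomm : ∀ x ∈ S, ∀ y ∈ S, x * y = y * x := by
      rintro _ ⟨a, ha, rfl⟩ _ ⟨b, hb, rfl⟩
      exact ((valid_of_genOk (hok a ha)).repr.mul (valid_of_genOk (hok b hb)).repr).eq
        ((valid_of_genOk (hok b hb)).repr.mul (valid_of_genOk (hok a ha)).repr)
        fun i hi => (hA a ha).2 b hb i hi
    haveI := Subgroup.isMulCommutative_closure hcomm
    have key : ∀ ρ (hρ : ρ ∈ Subgroup.closure S), ρ * ρ = 1 := by
      intro ρ hρ
      induction hρ using Subgroup.closure_induction with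
      | mem x hx =>
        obtain ⟨a, ha, rfl⟩ := hx
        exact ((valid_of_genOk (hok a ha)).repr.mul (valid_of_genOk (hok a ha)).repr).eq Repr.one
          fun i hi => (hA a ha).1 i hi
      | one => rw [one_mul]
      | mul x y hx hy ihx ihy =>
        have e : y * x = x * y := setLike_mul_comm hy hx
        calc x * y * (x * y) = x * (y * x) * y := by group
          _ = x * x * (y * y) := by rw [e]; group
          _ = 1 := by rw [ihx, ihy, one_mul]
      | inv x hx ih => rw [← mul_inv_rev, ih, inv_one]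
    exact key τ hτ

/-- The conjugates of the generators of `cN` by the generators `gens` stay in the group of `cN`. -/
def normOk (gens : List Gen) : List Lvl → List (List (List ℕ)) → Bool
  | [], _ => true
  | L :: rest, wit => (List.range gens.length).all fun i => (List.range L.gens.length).all fun j =>
      match gens[i]?, L.gens[j]? with
      | some h, some x => (List.range 24).all fun p =>
          sift (L :: rest) ((wit.getD i []).getD j []) (app h.1 p) == app h.1 (app x.1 p)
      | _, _ => false

/-- A group generated by elements normalising `cN` normalises it. -/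
theorem conj_mem_of_normOk {c cN : List Lvl} {gens : List Gen} (hG : GensFor c gens)
    (hN : chk 24 cN = true) {wit : List (List (List ℕ))} (hW : normOk gens cN wit = true)
    {σ τ : Perm GolayPt} (hσ : σ ∈ gpGrp c) (hτ : τ ∈ gpGrp cN) : σ * τ * σ⁻¹ ∈ gpGrp cN := by
  have hfix : gpGrp c ≤ Subgroup.normalizer (gpGrp cN : Set (Perm GolayPt)) := by
    refine gpGrp_le_of_gensFor hG fun g hg => ?_
    obtain ⟨i, hi, rfl⟩ := List.getElem_of_mem hg
    have hmap : (gpGrp cN).map (MulAut.conj (genPerm gens[i])).toMonoidHom ≤ gpGrp cN := by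
      rw [gpGrp, Subgroup.map_map, Subgroup.map_le_iff_le_comap]
      cases cN with
      | nil => simp [grp]
      | cons L rest =>
        refine (Subgroup.closure_le _).2 ?_
        rintro _ ⟨x, hx, rfl⟩
        obtain ⟨j, hj, rfl⟩ := List.getElem_of_mem hx
        simp only [normOk, List.all_eq_true, List.mem_range] at hW
        have h := hW i hi j hj
        rw [List.getElem?_eq_getElem hi, List.getElem?_eq_getElem hj] at h
        simp only [List.all_eq_true, List.mem_range, beq_iff_eq] at h
        obtain ⟨hr, hm⟩ := sift_spec hN ((wit.getD i []).getD j [])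
        have hN' := hN
        simp only [chk, Bool.and_eq_true] at hN'
        obtain ⟨-, hok, -⟩ := lvlOk_iff hN'.1
        have hh := (hG.valid _ (List.getElem_mem hi)).1.repr
        have hx' := (valid_of_genOk (hok _ (List.getElem_mem hj))).repr
        have he := (hr.mul hh).eq (hh.mul hx') h
        refine ⟨_, hm, ?_⟩
        show toGP _ = genPerm gens[i] * toGP (toPerm 24 L.gens[j].1) * (genPerm gens[i])⁻¹
        rw [genPerm, ← map_mul, ← he, map_mul, mul_inv_cancel_right]
    have heq := Subgroup.eq_of_le_of_card_ge hmap (le_of_eq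
      (Subgroup.card_map_of_injective (MulAut.conj (genPerm gens[i])).injective).symm)
    rw [Subgroup.mem_normalizer_iff]
    intro x
    conv_rhs => rw [← heq]
    exact (Subgroup.mem_map_iff_mem (MulAut.conj (genPerm gens[i])).injective).symm
  exact (Subgroup.mem_normalizer_iff.1 (hfix hσ) τ).1 hτ

end Cfsg.Agent.Lib.GolayOrbit
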