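import Cfsg.Agent.Lib.Golay.Octads
import Cfsg.Agent.Lib.Golay.TrioData

/-!
# The trios form one orbit
-/

set_option autoImplicit false

namespace Cfsg.Agent.Lib.GolayOrbit

open Cfsg Cfsg.Agent.Lib.Compute Equiv
open scoped Pointwise

/-- The base trio. -/
def baseTrio : Finset (Finset GolayPt) := (familyCoding 3).dec trio0

theorem baseTrio_mem : baseTrio ∈ trios := by
  have hg : (familyCoding 3).good trio0 = true := by decide +kernel
  have h8 : (unpack 3 trio0).all (fun m => octadList.contains m) = true := by decide +kernel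
  have hp : (unpack 3 trio0).all (fun a => (unpack 3 trio0).all fun b =>
      a == b || a &&& b == 0) = true := by decide +kernel
  simp only [List.all_eq_true, Bool.or_eq_true, beq_iff_eq, List.contains_iff_mem] at h8 hp
  refine ⟨card_family hg, fun o ho => ?_, fun o ho u hu hne => ?_⟩
  · obtain ⟨m, hm, rfl⟩ := mem_family.1 ho
    exact mem_octads_of_mask (h8 m hm)
  · obtain ⟨m, hm, rfl⟩ := mem_family.1 ho
    obtain ⟨n, hn, rfl⟩ := mem_family.1 hu
    exact (disjoint_setOf24 (lt_of_mem_unpack hm)).2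
      ((hp m hm n hn).resolve_left fun e => hne (by rw [e]))

theorem smul_mem_trios {g : Perm GolayPt} (hg : g ∈ M24) {T : Finset (Finset GolayPt)}
    (hT : T ∈ trios) : g • T ∈ trios := by
  obtain ⟨h3, h8, hp⟩ := hT
  refine ⟨by rw [Finset.card_smul_finset, h3], fun o ho => ?_, fun o ho u hu hne => ?_⟩
  · obtain ⟨a, ha, rfl⟩ := Finset.mem_smul_finset.1 ho
    exact smul_mem_octads hg (h8 a ha)
  · obtain ⟨a, ha, rfl⟩ := Finset.mem_smul_finset.1 ho
    obtain ⟨b, hb, rfl⟩ := Finset.mem_smul_finset.1 hu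
    rw [Finset.disjoint_iff_inter_eq_empty, ← Finset.smul_finset_inter,
      Finset.disjoint_iff_inter_eq_empty.1 (hp a ha b hb fun e => hne (by rw [e])),
      Finset.smul_finset_empty]

theorem exists_trio_key_of_base {T : Finset (Finset GolayPt)} (hT : T ∈ trios) (hb : baseOctad ∈ T) :
    ∃ k ∈ trioTree.keys, (familyCoding 3).dec k = T := by
  have key : octadList.all (fun m => !(oct0 &&& m == 0) ||
      (((oct0 ||| m) ^^^ 16777215) < 16777216 &&
        trioTree.mem (famKey [oct0, m, (oct0 ||| m) ^^^ 16777215]))) = true := by decide +kernel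
  simp only [List.all_eq_true, Bool.or_eq_true, Bool.and_eq_true, decide_eq_true_eq,
    Bool.not_eq_true', beq_eq_false_iff_ne] at key
  obtain ⟨h3, h8, hp⟩ := hT
  obtain ⟨a, c, b, hac, hab, hcb, rfl⟩ := Finset.card_eq_three.1 h3
  have main : ∀ u v : Finset GolayPt, u ∈ octads → v ∈ octads → Disjoint baseOctad u →
      Disjoint baseOctad v → Disjoint u v →
      ∃ k ∈ trioTree.keys, (familyCoding 3).dec k = {baseOctad, u, v} := by
    intro u v hu hv h1 h2 h3'
    obtain ⟨m, hm, rfl⟩ := exists_octad_mask hu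
    have hm0 : oct0 &&& m = 0 := (disjoint_setOf24 (lt_of_mem_octadList oct0_mem)).1 h1
    obtain ⟨hlt, hk⟩ := (key m hm).resolve_left fun h => h hm0
    refine ⟨_, OTree.mem_keys_of_mem hk, ?_⟩
    rw [dec_famKey (n := 3) _ rfl]
    · have hv' : v = setOf24 ((oct0 ||| m) ^^^ 16777215) := by
        rw [setOf24_compl, setOf24_or]
        refine Finset.eq_of_subset_of_card_le (fun p hp => ?_) ?_
        · rw [Finset.mem_compl, Finset.mem_union]
          rintro (h | h)
          · exact Finset.disjoint_left.1 h2 h hp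
          · exact Finset.disjoint_left.1 h3' h hp
        · rw [Finset.card_compl, Finset.card_union_of_disjoint (show Disjoint (setOf24 oct0) _ from h1), show (setOf24 oct0).card = 8 from
            baseOctad_mem.2, hu.2, hv.2]
          decide
      simp [baseOctad, hv']
    · intro x hx
      simp only [List.mem_cons, List.not_mem_nil, or_false] at hx
      rcases hx with rfl | rfl | rfl
      · exact lt_of_mem_octadList oct0_mem
      · exact lt_of_mem_octadList hm
      · exact hlt
  simp only [Finset.mem_insert, Finset.mem_singleton] at hb h8 hp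
  rcases hb with rfl | rfl | rfl
  · exact main c b (h8 c (by simp)) (h8 b (by simp)) (hp _ (by simp) _ (by simp) hac)
      (hp _ (by simp) _ (by simp) hab) (hp _ (by simp) _ (by simp) hcb)
  · rw [Finset.insert_comm]
    exact main a b (h8 a (by simp)) (h8 b (by simp)) (hp _ (by simp) _ (by simp) hac.symm)
      (hp _ (by simp) _ (by simp) hcb) (hp _ (by simp) _ (by simp) hab)
  · rw [show ({a, c, baseOctad} : Finset (Finset GolayPt)) = {baseOctad, a, c} by
      ext x
      simp only [Finset.mem_insert, Finset.mem_singleton]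
      exact or_rotate.symm]
    exact main a c (h8 a (by simp)) (h8 c (by simp)) (hp _ (by simp) _ (by simp) hab.symm)
      (hp _ (by simp) _ (by simp) hcb.symm) (hp _ (by simp) _ (by simp) hac)

theorem exists_to_baseTrio {T : Finset (Finset GolayPt)} (hT : T ∈ trios) :
    ∃ g ∈ M24, g • T = baseTrio := by
  obtain ⟨o, ho⟩ := Finset.card_pos.1 (by rw [hT.1]; norm_num : 0 < T.card)
  obtain ⟨g, hg, he⟩ := exists_to_baseOctad (hT.2.1 o ho)
  obtain ⟨k, hk, hke⟩ := exists_trio_key_of_base (smul_mem_trios hg hT)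
    (he ▸ Finset.smul_mem_smul_finset ho)
  obtain ⟨τ, hτ, hτe⟩ := trioCert_stab.exists_to_base hk
  exact ⟨τ * g, mul_mem (mem_gpGrp_m24.1 hτ) hg, by rw [mul_smul, ← hke, hτe]; rfl⟩

theorem mem_trioCert {σ : Perm GolayPt} :
    σ ∈ gpGrp trioCert ↔ σ ∈ M24 ∧ σ • baseTrio = baseTrio := by
  rw [← mem_gpGrp_m24]
  exact trioCert_stab.stab_iff σ

theorem trios_eq_orbit : trios = {T | ∃ g ∈ gpGrp m24Cert, g • baseTrio = T} := by
  ext T
  constructor
  · intro hT
    obtain ⟨g, hg, he⟩ := exists_to_baseTrio hT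
    exact ⟨g⁻¹, mem_gpGrp_m24.2 (inv_mem hg), (eq_inv_smul_iff.2 he).symm⟩
  · rintro ⟨g, hg, rfl⟩
    exact smul_mem_trios (mem_gpGrp_m24.1 hg) baseTrio_mem

theorem trios_ncard : trios.ncard = 3795 := by
  rw [trios_eq_orbit, baseTrio, orbit_ncard (familyCoding 3) m24Gens_gensFor trioCert_stab.orb
    trioCert_stab.keys_incr, trioTree_length]

theorem exists_trio_key {T : Finset (Finset GolayPt)} (hT : T ∈ trios) :
    ∃ k ∈ trioTree.keys, (familyCoding 3).dec k = T := by
  rw [trios_eq_orbit] at hT
  exact (orbit_iff _ m24Gens_gensFor trioCert_stab.orb T).1 hT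

end Cfsg.Agent.Lib.GolayOrbit
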